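/-
Facts on `PSL₂(p)`, and on Sylow subgroups of order `p`.
-/
import Mathlib
import Cfsg.Agent.Lib.SL2.Dickson
import Cfsg.Agent.Lib.SL2.Solvable

set_option autoImplicit false
set_option linter.unusedSectionVars false
set_option linter.style.haveILetI false

namespace Cfsg.Agent.Lib.HalfPSL

open Cfsg.Agent.Lib.SL2 Subgroup

variable {p : ℕ} [hp : Fact p.Prime] {G : Type*} [Group G] [Finite G]

/-- A subgroup of order `p` as a Sylow subgroup. -/
noncomputable def primeSylow (hsq : ¬ p ^ 2 ∣ Nat.card G) {x : G} (hx : orderOf x = p) : Sylow p G :=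
  Sylow.ofCard (zpowers x) (by
    have hd : p ∣ Nat.card G := hx ▸ orderOf_dvd_natCard x
    have h1 : 1 ≤ (Nat.card G).factorization p :=
      hp.out.factorization_pos_of_dvd Nat.card_pos.ne' hd
    have h2 : ¬ 2 ≤ (Nat.card G).factorization p := fun h =>
      hsq ((pow_dvd_pow p h).trans (Nat.ordProj_dvd _ _))
    rw [Nat.card_zpowers, hx, show (Nat.card G).factorization p = 1 by omega, pow_one])

@[simp] theorem coe_primeSylow (hsq : ¬ p ^ 2 ∣ Nat.card G) {x : G} (hx : orderOf x = p) :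
    ((primeSylow hsq hx : Sylow p G) : Subgroup G) = zpowers x := rfl

/-- Elements of order `p` generate conjugate subgroups. -/
theorem exists_conj_mem_zpowers (hsq : ¬ p ^ 2 ∣ Nat.card G) {x y : G} (hx : orderOf x = p)
    (hy : y ^ p = 1) : ∃ g : G, g * y * g⁻¹ ∈ zpowers x := by
  by_cases hy1 : y = 1
  · exact ⟨1, by simp [hy1]⟩
  have hy' : orderOf y = p := orderOf_eq_prime hy hy1
  obtain ⟨g, hg⟩ := MulAction.exists_smul_eq G (primeSylow hsq hy') (primeSylow hsq hx)
  refine ⟨g, ?_⟩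
  have h : g * y * g⁻¹ ∈ ((g • primeSylow hsq hy' : Sylow p G) : Subgroup G) :=
    ⟨y, mem_zpowers y, rfl⟩
  rwa [hg] at h

/-- A normal subgroup of order divisible by `p` contains the elements of order `p`. -/
theorem mem_normal_of_dvd (hsq : ¬ p ^ 2 ∣ Nat.card G) (N : Subgroup G) [hN : N.Normal]
    (hd : p ∣ Nat.card N) {y : G} (hy : y ^ p = 1) : y ∈ N := by
  obtain ⟨z, hz⟩ := exists_prime_orderOf_dvd_card' p hd
  obtain ⟨g, hg⟩ := exists_conj_mem_zpowers hsq (x := (z : G)) (by rw [orderOf_coe, hz]) hy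
  have h1 : g * y * g⁻¹ ∈ N := (zpowers_le.2 z.2) hg
  have h2 := hN.conj_mem _ h1 g⁻¹
  rwa [show g⁻¹ * (g * y * g⁻¹) * g⁻¹⁻¹ = y by group] at h2

/-- The center of `PSL₂(p)` is trivial. -/
theorem center_psl (hp5 : 5 ≤ p) : center (PSLtwo (ZMod p)) = ⊥ := by
  have := Cfsg.Agent.Lib.LinGroup.isSimpleGroup_PSL_fin (F := ZMod p) (n := 2) le_rfl
    (fun _ => by rw [Nat.card_eq_fintype_card, ZMod.card]; omega)
  rcases IsSimpleGroup.eq_bot_or_eq_top_of_normal (center (PSLtwo (ZMod p))) inferInstance with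
    h | h
  · exact h
  · exact absurd ((mem_center_iff.1 (h.symm ▸ mem_top (proj (lower (1 : ZMod p))))) _)
      proj_upper_lower_ne

theorem not_sq_dvd_psl (hp5 : 5 ≤ p) : ¬ p ^ 2 ∣ Nat.card (PSLtwo (ZMod p)) := by
  intro h
  have h1 : p ^ 2 ∣ p * (p ^ 2 - 1) := by
    have h2 := h.mul_right (Nat.gcd 2 (Fintype.card (ZMod p) - 1))
    rwa [card_PSL_mul, ZMod.card] at h2
  rw [pow_two, Nat.mul_dvd_mul_iff_left hp.out.pos] at h1
  have h3 := Nat.dvd_sub (dvd_mul_right p p) h1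
  rw [← pow_two] at h3 h1
  have h4 : p * p - (p * p - 1) = 1 := by
    have : 0 < p * p := Nat.mul_pos hp.out.pos hp.out.pos
    omega
  rw [pow_two, h4] at h3
  exact hp.out.not_dvd_one h3

theorem orderOf_proj_upper : orderOf (proj (upper (1 : ZMod p))) = p := by
  refine orderOf_eq_prime ?_ ?_
  · rw [← map_pow, upper_pow, ZMod.natCast_self, zero_mul, upper_zero, map_one]
  · intro h
    exact one_ne_zero (proj_upper_injective (a₁ := (1 : ZMod p)) (a₂ := 0)
      (by simpa [upper_zero] using h))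

/-- `PSL₂(p)` has `p + 1` subgroups of order `p`. -/
theorem card_sylow_psl (hp5 : 5 ≤ p) : Nat.card (Sylow p (PSLtwo (ZMod p))) = p + 1 := by
  haveI : Fintype (ZMod p) := ZMod.fintype p
  have ho := orderOf_proj_upper (p := p)
  have hu1 : proj (upper (1 : ZMod p)) ≠ 1 := fun h => by
    rw [h, orderOf_one] at ho; omega
  have hun : IsUnip (proj (upper (1 : ZMod p))) := ⟨upper 1, rfl, by simp [tr]; norm_num⟩
  have htor : zpowers (proj (upper (1 : ZMod p))) = torus (proj (upper (1 : ZMod p))) :=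
    Subgroup.eq_of_le_of_card_ge (zpowers_le.2 (mem_torus_self _))
      (by rw [card_torus_unip hun hu1, Nat.card_zpowers, ho, ZMod.card])
  rw [(primeSylow (not_sq_dvd_psl hp5) ho).card_eq_index_normalizer]
  show (normalizer ((zpowers (proj (upper (1 : ZMod p))) : Subgroup (PSLtwo (ZMod p))) :
    Set (PSLtwo (ZMod p)))).index = p + 1
  rw [htor]
  have h1 := Subgroup.index_mul_card
    (normalizer ((torus (proj (upper (1 : ZMod p))) : Subgroup (PSLtwo (ZMod p))) :
      Set (PSLtwo (ZMod p))))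
  rw [card_normalizer_torus_unip hun hu1, ← Subgroup.index_mul_card (borelPSL (F := ZMod p))] at h1
  rw [Nat.eq_of_mul_eq_mul_right Nat.card_pos h1, index_borelPSL, ZMod.card]

/-- Squares are realised by conjugation. -/
theorem exists_conj_pow_sq (hp5 : 5 ≤ p) {u : PSLtwo (ZMod p)} (hu : u ^ p = 1) (b : (ZMod p)ˣ) :
    ∃ h, h * u * h⁻¹ = u ^ (((b : ZMod p) * b).val) := by
  obtain ⟨q, hq⟩ := exists_conj_mem_zpowers (not_sq_dvd_psl hp5) orderOf_proj_upper hu
  obtain ⟨i, hi⟩ := (Submonoid.mem_powers_iff _ _).1 (mem_powers_iff_mem_zpowers.2 hq)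
  refine ⟨q⁻¹ * proj (diag b) * q, ?_⟩
  have h1 : proj (diag b) * (q * u * q⁻¹) * (proj (diag b))⁻¹ =
      (q * u * q⁻¹) ^ (((b : ZMod p) * b).val) := by
    rw [← hi, ← pow_mul, ← map_pow, ← map_pow, ← map_inv, ← map_mul, ← map_mul, upper_pow,
      upper_pow, diag_conj_upper, Nat.cast_mul, ZMod.natCast_zmod_val]
    congr 2
    ring
  rw [conj_pow] at h1
  calc q⁻¹ * proj (diag b) * q * u * (q⁻¹ * proj (diag b) * q)⁻¹
      = q⁻¹ * (proj (diag b) * (q * u * q⁻¹) * (proj (diag b))⁻¹) * q := by group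
    _ = u ^ (((b : ZMod p) * b).val) := by rw [h1]; group

end Cfsg.Agent.Lib.HalfPSL
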