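/-
Linear algebra around a nilpotent endomorphism `T`: endomorphisms that push everything one step
down, lifting of idempotents modulo these, and retractions onto a block.
-/
import Mathlib

set_option autoImplicit false
set_option linter.unusedSectionVars false

namespace Cfsg.Agent.Lib.HalfPSL

open LinearMap Module Finset

variable {k : Type*} [Field k] {M : Type*} [AddCommGroup M] [Module k M]

/-- Commutes with `T` and maps into the range of `T`. -/
structure Small (T f : Module.End k M) : Prop where
  comm : Commute f T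
  range_le : range f ≤ range T

variable {T f g : Module.End k M}

theorem Small.zero : Small T (0 : Module.End k M) :=
  ⟨Commute.zero_left _, by simp⟩

theorem Small.add (hf : Small T f) (hg : Small T g) : Small T (f + g) :=
  ⟨hf.comm.add_left hg.comm, by
    rintro _ ⟨w, rfl⟩; exact add_mem (hf.range_le ⟨w, rfl⟩) (hg.range_le ⟨w, rfl⟩)⟩

theorem Small.neg (hf : Small T f) : Small T (-f) :=
  ⟨hf.comm.neg_left, by rintro _ ⟨w, rfl⟩; exact neg_mem (hf.range_le ⟨w, rfl⟩)⟩

theorem Small.sub (hf : Small T f) (hg : Small T g) : Small T (f - g) := by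
  rw [sub_eq_add_neg]; exact hf.add hg.neg

theorem Small.mul_left (hg : Commute g T) (hf : Small T f) : Small T (g * f) := by
  refine ⟨hg.mul_left hf.comm, ?_⟩
  rintro _ ⟨w, rfl⟩
  obtain ⟨u, hu⟩ := hf.range_le ⟨w, rfl⟩
  refine ⟨g u, ?_⟩
  rw [← Module.End.mul_apply, ← hg.eq, Module.End.mul_apply, hu, Module.End.mul_apply]

theorem Small.mul_right (hg : Commute g T) (hf : Small T f) : Small T (f * g) := by
  refine ⟨hf.comm.mul_left hg, ?_⟩
  rintro _ ⟨w, rfl⟩
  exact hf.range_le ⟨g w, rfl⟩

theorem Small.range_pow_le (hf : Small T f) (n : ℕ) : range (f ^ n) ≤ range (T ^ n) := by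
  induction n with
  | zero => simp
  | succ n ih =>
    rintro _ ⟨w, rfl⟩
    obtain ⟨u, hu⟩ := ih ⟨w, rfl⟩
    obtain ⟨z, hz⟩ := hf.range_le ⟨u, rfl⟩
    refine ⟨z, ?_⟩
    rw [pow_succ, pow_succ', Module.End.mul_apply, hz, Module.End.mul_apply, ← hu,
      ← Module.End.mul_apply, ← Module.End.mul_apply, (hf.comm.pow_right n).eq]

theorem Small.pow_eq_zero (hf : Small T f) {n : ℕ} (hT : T ^ n = 0) : f ^ n = 0 := by
  refine LinearMap.ext fun w => ?_
  have h := hf.range_pow_le n ⟨w, rfl⟩
  rw [hT, LinearMap.range_zero, Submodule.mem_bot] at h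
  exact h

/-- An element congruent to an idempotent gives an idempotent. -/
theorem exists_idem_lift {n : ℕ} (hT : T ^ n = 0) {a e : Module.End k M} (he : IsIdempotentElem e)
    (heT : Commute e T) (haT : Commute a T) (h : Small T (a - e)) :
    ∃ a' : Module.End k M, IsIdempotentElem a' ∧ (∀ c, Commute c a → Commute c a') ∧
      Small T (a' - e) := by
  have hsq : Small T (a ^ 2 - a) := by
    have h1 : a ^ 2 - a = (a - e) * a + e * (a - e) - (a - e) := by
      rw [sq, sub_mul, mul_sub, he.eq]; abel
    rw [h1]
    exact ((h.mul_right haT).add (h.mul_left heT)).sub h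
  have hz : (a ^ 2 - a) ^ (n + 1) = 0 := by rw [pow_succ, hsq.pow_eq_zero hT, zero_mul]
  set r := n + 1 with hr
  let P : Polynomial k := 1 - (1 - Polynomial.X ^ r) ^ r
  refine ⟨Polynomial.aeval a P, ?_, fun c hc => ?_, ?_⟩
  · have hd1 : Polynomial.X ^ r ∣ P := by
      have := sub_dvd_pow_sub_pow (1 : Polynomial k) (1 - Polynomial.X ^ r) r
      rwa [one_pow, sub_sub_cancel] at this
    have hd2 : (1 - Polynomial.X) ^ r ∣ (1 - Polynomial.X ^ r : Polynomial k) ^ r := by
      refine pow_dvd_pow_of_dvd ?_ r
      have := sub_dvd_pow_sub_pow (1 : Polynomial k) Polynomial.X r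
      rwa [one_pow] at this
    have hd : (Polynomial.X ^ 2 - Polynomial.X : Polynomial k) ^ r ∣ P * P - P := by
      have h2 : P * P - P = -(P * (1 - Polynomial.X ^ r) ^ r) := by simp only [P]; ring
      rw [h2, dvd_neg, show (Polynomial.X ^ 2 - Polynomial.X : Polynomial k) =
        -(Polynomial.X * (1 - Polynomial.X)) by ring, neg_pow, mul_pow]
      refine (IsUnit.mul_left_dvd (isUnit_one.neg.pow r)).mpr (mul_dvd_mul hd1 hd2)
    obtain ⟨Q, hQ⟩ := hd
    have h3 := congrArg (Polynomial.aeval a) hQ
    simp only [map_sub, map_mul, map_pow, Polynomial.aeval_X, hz, zero_mul] at h3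
    exact sub_eq_zero.mp h3
  · clear_value P
    induction P using Polynomial.induction_on' with
    | add p q hp hq => rw [map_add]; exact hp.add_right hq
    | monomial i s =>
      rw [Polynomial.aeval_monomial]
      exact (Algebra.commute_algebraMap_right s c).mul_right (hc.pow_right i)
  · have hcong : ∀ {b u : Module.End k M}, Commute b T → Commute u T → IsIdempotentElem u →
        Small T (b - u) → ∀ i, Small T (b ^ (i + 1) - u) := by
      intro b u hb hu huu hbu i
      induction i with
      | zero => simpa using hbu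
      | succ i ih =>
        have h1 : b ^ (i + 1 + 1) - u = (b ^ (i + 1) - u) * b + u * (b - u) := by
          rw [pow_succ b (i + 1), sub_mul, mul_sub, huu.eq]; abel
        rw [h1]
        exact (ih.mul_right hb).add (hbu.mul_left hu)
    have hb : Commute (1 - a ^ r) T := (Commute.one_left _).sub_left (haT.pow_left r)
    have hu : Commute (1 - e) T := (Commute.one_left _).sub_left heT
    have h1 : Small T ((1 - a ^ r) - (1 - e)) := by
      rw [sub_sub_sub_cancel_left, ← neg_sub]
      exact (hcong haT heT he h n).neg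
    have h2 := (hcong hb hu he.one_sub h1 n).neg
    simp only [P, map_sub, map_one, map_pow, Polynomial.aeval_X]
    convert h2 using 1
    abel

theorem idem_inj {n : ℕ} (hT : T ^ n = 0) {a e : Module.End k M} (ha : IsIdempotentElem a)
    (h : Small T (a - e)) {v : M} (hv : v ∈ range a) (hev : e v = 0) : v = 0 := by
  obtain ⟨w, rfl⟩ := hv
  have h1 : (a - e) (a w) = a w := by
    rw [LinearMap.sub_apply, hev, sub_zero, ← Module.End.mul_apply, ha.eq]
  have h2 : ∀ i, ((a - e) ^ i) (a w) = a w := by
    intro i
    induction i with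
    | zero => simp
    | succ i ih => rw [pow_succ, Module.End.mul_apply, h1, ih]
  rw [← h2 n, h.pow_eq_zero hT, LinearMap.zero_apply]

variable [FiniteDimensional k M]

theorem finrank_range_eq {n : ℕ} (hT : T ^ n = 0) {a e : Module.End k M} (ha : IsIdempotentElem a)
    (he : IsIdempotentElem e) (h : Small T (a - e)) :
    finrank k (range a) = finrank k (range e) := by
  have key : ∀ {a e : Module.End k M}, IsIdempotentElem a → Small T (a - e) →
      finrank k (range a) ≤ finrank k (range e) := by
    intro a e ha h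
    refine LinearMap.finrank_le_finrank_of_injective (f := (e ∘ₗ (range a).subtype).codRestrict
      (range e) fun v => ⟨(v : M), rfl⟩) fun v w hvw => Subtype.ext ?_
    have h1 : e ((v : M) - (w : M)) = 0 := by
      rw [map_sub, sub_eq_zero]; exact congrArg Subtype.val hvw
    exact sub_eq_zero.mp (idem_inj hT ha h (sub_mem v.2 w.2) h1)
  exact le_antisymm (key ha h) (key he (by rw [← neg_sub]; exact h.neg))

theorem idem_surj {n : ℕ} (hT : T ^ n = 0) {a e : Module.End k M} (ha : IsIdempotentElem a)
    (he : IsIdempotentElem e) (h : Small T (a - e)) {u : M} (hu : u ∈ range e) :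
    ∃ v ∈ range a, e v = u := by
  let F : range a →ₗ[k] range e :=
    (e ∘ₗ (range a).subtype).codRestrict (range e) fun v => ⟨(v : M), rfl⟩
  have hinj : Function.Injective F := by
    intro v w hvw
    have h1 : e ((v : M) - (w : M)) = 0 := by
      rw [map_sub, sub_eq_zero]; exact congrArg Subtype.val hvw
    exact Subtype.ext (sub_eq_zero.mp (idem_inj hT ha h (sub_mem v.2 w.2) h1))
  obtain ⟨v, hv⟩ := (LinearMap.injective_iff_surjective_of_finrank_eq_finrank
    (finrank_range_eq hT ha he h)).mp hinj ⟨u, hu⟩
  exact ⟨v, v.2, congrArg Subtype.val hv⟩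

/-- The span of a chain. -/
def chain (T : Module.End k M) (f : M) (s : ℕ) : Submodule k M :=
  Submodule.span k (Set.range fun i : Fin s => (T ^ (i : ℕ)) f)

theorem pow_apply_mem_chain {f : M} {s : ℕ} (hf : (T ^ s) f = 0) (i : ℕ) :
    (T ^ i) f ∈ chain T f s := by
  rcases lt_or_ge i s with h | h
  · exact Submodule.subset_span ⟨⟨i, h⟩, rfl⟩
  · obtain ⟨j, rfl⟩ := Nat.exists_eq_add_of_le h
    rw [add_comm, pow_add, Module.End.mul_apply, hf, map_zero]
    exact zero_mem _

theorem map_chain_le {f : M} {s : ℕ} (hf : (T ^ s) f = 0) {v : M} (hv : v ∈ chain T f s) :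
    T v ∈ chain T f s := by
  induction hv using Submodule.span_induction with
  | mem x hx =>
    obtain ⟨i, rfl⟩ := hx
    show T ((T ^ (i : ℕ)) f) ∈ _
    rw [← Module.End.mul_apply, ← pow_succ']
    exact pow_apply_mem_chain hf _
  | zero => rw [map_zero]; exact zero_mem _
  | add x y _ _ hx hy => rw [map_add]; exact add_mem hx hy
  | smul c x _ hx => rw [map_smul]; exact Submodule.smul_mem _ c hx

/-- A block that is not pushed down is a direct summand. -/
theorem exists_retraction {f : M} {s : ℕ} (hf : (T ^ (s + 1)) f = 0) (φ : M →ₗ[k] k)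
    (hφ : φ ((T ^ s) f) ≠ 0) (hφ0 : ∀ w, φ ((T ^ (s + 1)) w) = 0) :
    ∃ r : Module.End k M, Commute r T ∧ IsProj (chain T f (s + 1)) r ∧
      finrank k (chain T f (s + 1)) = s + 1 := by
  classical
  let Φ : (Fin (s + 1) → k) →ₗ[k] M := Fintype.linearCombination k fun i : Fin (s + 1) => (T ^ (i : ℕ)) f
  let Ψ : M →ₗ[k] (Fin (s + 1) → k) := LinearMap.pi fun i => φ ∘ₗ (T ^ (i : ℕ))
  have hΦ : range Φ = chain T f (s + 1) := Fintype.range_linearCombination k _
  have hhigh : ∀ j, s + 1 ≤ j → ∀ w, φ ((T ^ j) w) = 0 := by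
    intro j hj w
    obtain ⟨l, rfl⟩ := Nat.exists_eq_add_of_le hj
    rw [pow_add, Module.End.mul_apply]
    exact hφ0 _
  have hinj : Function.Injective (Ψ ∘ₗ Φ) := by
    rw [injective_iff_map_eq_zero]
    intro c hc
    by_contra hne
    obtain ⟨i, hi, hmin⟩ := exists_min_image (univ.filter fun i : Fin (s + 1) => c i ≠ 0)
      (fun i => (i : ℕ)) (by
        by_contra he
        rw [not_nonempty_iff_eq_empty] at he
        exact hne (funext fun i => by
          by_contra h0
          exact Finset.eq_empty_iff_forall_notMem.mp he i (mem_filter.mpr ⟨mem_univ _, h0⟩)))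
    rw [mem_filter] at hi
    have h1 := congrFun hc ⟨s - (i : ℕ), by omega⟩
    simp only [Ψ, Φ, LinearMap.coe_comp, Function.comp_apply, LinearMap.pi_apply,
      Fintype.linearCombination_apply, map_sum, map_smul, Pi.zero_apply] at h1
    rw [sum_eq_single i ?_ (fun h => absurd (mem_univ i) h)] at h1
    · rw [← Module.End.mul_apply, ← pow_add, Nat.sub_add_cancel (by omega), smul_eq_mul,
        mul_eq_zero] at h1
      rcases h1 with h1 | h1
      · exact hi.2 h1
      · exact hφ h1
    intro j _ hji
    rcases eq_or_ne (c j) 0 with h0 | h0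
    · rw [h0, zero_smul]
    have hlt : (i : ℕ) < j := lt_of_le_of_ne (hmin j (mem_filter.mpr ⟨mem_univ _, h0⟩))
      fun h => hji (Fin.ext h.symm)
    rw [← Module.End.mul_apply, ← pow_add, hhigh _ (by omega), smul_zero]
  have hΦinj : Function.Injective Φ := fun a b h => hinj (by simp [h])
  let E := LinearEquiv.ofInjectiveEndo (Ψ ∘ₗ Φ) hinj
  let r : Module.End k M := Φ ∘ₗ E.symm.toLinearMap ∘ₗ Ψ
  have hrU : ∀ w, r w ∈ chain T f (s + 1) := fun w => hΦ ▸ ⟨_, rfl⟩
  have hfix : ∀ v ∈ chain T f (s + 1), r v = v := by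
    intro v hv
    rw [← hΦ] at hv
    obtain ⟨c, rfl⟩ := hv
    show Φ (E.symm (Ψ (Φ c))) = Φ c
    rw [show Ψ (Φ c) = E c from rfl, LinearEquiv.symm_apply_apply]
  refine ⟨r, LinearMap.ext fun w => ?_, ⟨hrU, hfix⟩, ?_⟩
  · have hker : ∀ u, r u = 0 → r (T u) = 0 := by
      intro u hu
      have h1 : E.symm (Ψ u) = 0 := hΦinj (by rw [map_zero]; exact hu)
      have h2 : Ψ u = 0 := by simpa using congrArg E h1
      have h3 : Ψ (T u) = 0 := by
        funext i
        show φ ((T ^ (i : ℕ)) (T u)) = 0
        rw [← Module.End.mul_apply, ← pow_succ]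
        rcases lt_or_ge ((i : ℕ) + 1) (s + 1) with h | h
        · exact congrFun h2 ⟨_, h⟩
        · exact hhigh _ h _
      show Φ (E.symm (Ψ (T u))) = 0
      rw [h3, map_zero, map_zero]
    have h := hker (w - r w) (by rw [map_sub, hfix _ (hrU w), sub_self])
    rw [map_sub, map_sub, sub_eq_zero, hfix _ (map_chain_le hf (hrU w))] at h
    exact h
  · rw [← hΦ, LinearMap.finrank_range_of_inj hΦinj, Module.finrank_fintype_fun_eq_card,
      Fintype.card_fin]

/-- A single Jordan block. -/
def Single (T : Module.End k M) : Prop := finrank k (ker T) ≤ 1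

theorem finrank_ker_pow_le (hs : Single T) (n : ℕ) : finrank k (ker (T ^ n)) ≤ n := by
  induction n with
  | zero => rw [pow_zero, Module.End.one_eq_id, LinearMap.ker_id, finrank_bot]
  | succ n ih =>
    let F : ker (T ^ (n + 1)) →ₗ[k] ker (T ^ n) :=
      (T ∘ₗ (ker (T ^ (n + 1))).subtype).codRestrict _ fun v => by
        rw [LinearMap.mem_ker, LinearMap.coe_comp, Function.comp_apply, ← Module.End.mul_apply,
          ← pow_succ]
        exact v.2
    have h1 := F.finrank_range_add_finrank_ker
    have h2 : finrank k (ker F) ≤ finrank k (ker T) := by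
      let G : ker F →ₗ[k] ker T :=
        (((ker (T ^ (n + 1))).subtype) ∘ₗ (ker F).subtype).codRestrict _ fun v => by
          have := congrArg Subtype.val (LinearMap.mem_ker.mp v.2)
          exact LinearMap.mem_ker.mpr this
      exact LinearMap.finrank_le_finrank_of_injective (f := G) fun v w h =>
        Subtype.ext (Subtype.ext (congrArg (fun z : ker T => (z : M)) h))
    have h3 := Submodule.finrank_le (range F)
    have h4 : finrank k (ker T) ≤ 1 := hs
    omega

theorem Single.pow_ne_zero (hs : Single T) {n : ℕ} (hn : n < finrank k M) : T ^ n ≠ 0 := by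
  intro h
  have h1 := finrank_ker_pow_le hs n
  rw [h, LinearMap.ker_zero, finrank_top] at h1
  omega

theorem Single.restrict (hs : Single T) {U : Submodule k M} (hU : ∀ v ∈ U, T v ∈ U) :
    Single (T.restrict hU) := by
  refine le_trans ?_ hs
  let G : ker (T.restrict hU) →ₗ[k] ker T :=
    (U.subtype ∘ₗ (ker (T.restrict hU)).subtype).codRestrict _ fun v => by
      have := congrArg Subtype.val (LinearMap.mem_ker.mp v.2)
      exact LinearMap.mem_ker.mpr this
  exact LinearMap.finrank_le_finrank_of_injective (f := G) fun v w h =>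
    Subtype.ext (Subtype.ext (congrArg (fun z : ker T => (z : M)) h))

theorem Single.mapQ (hs : Single T) {U : Submodule k M} (hU : U ≤ U.comap T) :
    Single (U.mapQ U T hU) := by
  have h1 : ker (U.mapQ U T hU) = (U.comap T).map U.mkQ := by
    ext q
    obtain ⟨v, rfl⟩ := U.mkQ_surjective q
    rw [LinearMap.mem_ker, Submodule.mkQ_apply, Submodule.mapQ_apply, Submodule.Quotient.mk_eq_zero]
    constructor
    · intro h; exact ⟨v, h, rfl⟩
    · rintro ⟨w, hw, hwv⟩
      have hd : v - w ∈ U := by
        rw [Submodule.mkQ_apply, Submodule.Quotient.eq] at hwv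
        simpa using neg_mem hwv
      have := hU hd
      rw [Submodule.mem_comap, map_sub] at this
      have h2 := add_mem this (Submodule.mem_comap.mp hw)
      rwa [sub_add_cancel] at h2
  unfold Single at *
  rw [h1]
  let C := U.comap T
  let G : C →ₗ[k] U := (T ∘ₗ C.subtype).codRestrict U fun v => v.2
  have h2 := G.finrank_range_add_finrank_ker
  have h3 : finrank k (ker G) ≤ finrank k (ker T) := by
    let G' : ker G →ₗ[k] ker T := (C.subtype ∘ₗ (ker G).subtype).codRestrict _ fun v => by
      have := congrArg Subtype.val (LinearMap.mem_ker.mp v.2)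
      exact LinearMap.mem_ker.mpr this
    exact LinearMap.finrank_le_finrank_of_injective (f := G') fun v w h =>
      Subtype.ext (Subtype.ext (congrArg (fun z : ker T => (z : M)) h))
  have h4 := Submodule.finrank_le (range G)
  let R : C →ₗ[k] M ⧸ U := U.mkQ ∘ₗ C.subtype
  have h5 : range R = C.map U.mkQ := by rw [LinearMap.range_comp, Submodule.range_subtype]
  have h6 := R.finrank_range_add_finrank_ker
  have h7 : finrank k U ≤ finrank k (ker R) := by
    let I : U →ₗ[k] ker R := LinearMap.codRestrict (ker R)
      (Submodule.inclusion hU) fun v => by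
        rw [LinearMap.mem_ker]
        exact (Submodule.Quotient.mk_eq_zero U).mpr v.2
    exact LinearMap.finrank_le_finrank_of_injective (f := I) fun v w h =>
      Subtype.ext (congrArg (fun z : ker R => ((z : C) : M)) h)
  rw [h5] at h6
  simp only [C] at *
  omega

/-- Without nontrivial idempotents in the commutant there is one block. -/
theorem single_of_idem [Nontrivial M] (hnil : IsNilpotent T)
    (h : ∀ r : Module.End k M, Commute r T → IsIdempotentElem r → r = 0 ∨ r = 1) : Single T := by
  set s := nilpotencyClass T with hs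
  have hpos : 0 < s := pos_nilpotencyClass_iff.mpr hnil
  obtain ⟨j, hj⟩ := Nat.exists_eq_add_of_le hpos
  have h0 : T ^ (j + 1) = 0 := by rw [add_comm, ← hj, hs]; exact pow_nilpotencyClass hnil
  have hne : T ^ j ≠ 0 := pow_pred_nilpotencyClass hnil |> fun h => by
    rwa [← hs, hj, show Nat.succ 0 + j - 1 = j by omega] at h
  obtain ⟨f, hf⟩ : ∃ f, (T ^ j) f ≠ 0 := by
    by_contra h; push Not at h; exact hne (LinearMap.ext h)
  obtain ⟨φ, hφ⟩ := Module.Projective.exists_dual_ne_zero k hf
  obtain ⟨r, hrT, hr, -⟩ := exists_retraction (s := j) (by rw [h0, LinearMap.zero_apply]) φ hφ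
    fun w => by rw [h0, LinearMap.zero_apply, map_zero]
  have hr1 : r = 1 := by
    refine (h r hrT hr.isIdempotentElem).resolve_left fun he => hf ?_
    have := hr.map_id _ (pow_apply_mem_chain (T := T) (f := f) (s := j + 1)
      (by rw [h0, LinearMap.zero_apply]) j)
    rw [he, LinearMap.zero_apply] at this
    exact this.symm
  have htop : ∀ v, v ∈ chain T f (j + 1) := fun v => by
    have := hr.map_mem v; rwa [hr1, Module.End.one_apply] at this
  -- the kernel is the last line
  have hle : ker T ≤ Submodule.span k {(T ^ j) f} := by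
    intro v hv
    obtain ⟨c, hc⟩ := (Submodule.mem_span_range_iff_exists_fun k).mp (htop v)
    have key : ∀ i : Fin (j + 1), (i : ℕ) < j → c i = 0 := by
      intro i
      induction hi : (i : ℕ) using Nat.strong_induction_on generalizing i with
      | _ d ih =>
        intro hd
        have h1 : (T ^ (j - d)) v = 0 := by
          obtain ⟨l, hl⟩ := Nat.exists_eq_add_of_le (show 1 ≤ j - d by omega)
          rw [hl, add_comm, pow_succ, Module.End.mul_apply, LinearMap.mem_ker.mp hv, map_zero]
        rw [← hc, map_sum, sum_eq_single i ?_ (fun h => absurd (mem_univ i) h), map_smul,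
          ← Module.End.mul_apply, ← pow_add, hi, Nat.sub_add_cancel hd.le, smul_eq_zero] at h1
        · exact h1.resolve_right hf
        intro i' _ hne'
        rcases lt_trichotomy (i' : ℕ) d with h2 | h2 | h2
        · rw [ih _ h2 i' rfl (h2.trans hd), zero_smul, map_zero]
        · exact absurd (Fin.ext (h2.trans hi.symm)) hne'
        · rw [map_smul, ← Module.End.mul_apply, ← pow_add]
          obtain ⟨l, hl⟩ := Nat.exists_eq_add_of_le (show j + 1 ≤ j - d + (i' : ℕ) by omega)
          rw [hl, pow_add, h0, zero_mul, LinearMap.zero_apply, smul_zero]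
    rw [← hc]
    refine Submodule.sum_mem _ fun i _ => ?_
    rcases lt_or_ge (i : ℕ) j with h2 | h2
    · rw [key i h2, zero_smul]; exact zero_mem _
    · rw [show (i : ℕ) = j by omega]
      exact Submodule.smul_mem _ _ (Submodule.subset_span rfl)
  exact le_trans (Submodule.finrank_mono hle) (finrank_span_singleton hf).le

end Cfsg.Agent.Lib.HalfPSL
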