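/-
Modules without free part for a group with a Sylow subgroup of order `p`: idempotents commuting
with the normalizer lift to the whole group.
-/
import Mathlib
import Cfsg.Agent.Lib.DefectOne.SmallTheorem
import Cfsg.Agent.Lib.HalfPSL.Nilp

set_option autoImplicit false
set_option linter.unusedSectionVars false
set_option linter.style.haveILetI false

namespace Cfsg.Agent.Lib.HalfPSL

open LinearMap Module Finset Subgroup Cfsg.Agent.Lib

variable {k : Type*} [Field k] {p : ℕ} [hp : Fact p.Prime] [CharP k p]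
  {M : Type*} [AddCommGroup M] [Module k M] [FiniteDimensional k M]

theorem sum_pow_eq {A : Type*} [Ring A] [Algebra k A] (Y : A) :
    ∑ i ∈ range p, Y ^ i = (Y - 1) ^ (p - 1) := by
  have h : (∑ i ∈ Finset.range p, (Polynomial.X : Polynomial k) ^ i) =
      (Polynomial.X - 1) ^ (p - 1) := by
    refine mul_right_cancel₀ (b := (Polynomial.X - 1 : Polynomial k))
      (by simpa using Polynomial.X_sub_C_ne_zero (1 : k)) ?_
    rw [geom_sum_mul, ← pow_succ, Nat.sub_add_cancel hp.out.one_le, sub_pow_char, one_pow]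
  have := congrArg (Polynomial.aeval Y) h
  simpa using this

/-- Averaging over the cosets of a subgroup of index prime to `p`. -/
theorem exists_equivariant_proj {Γ : Type*} [Group Γ] [Finite Γ] (σ : Γ →* Module.End k M)
    (Q : Subgroup Γ) (hidx : ¬ p ∣ Q.index) {U : Submodule k M} {r : Module.End k M}
    (hr : IsProj U r) (hU : ∀ γ, ∀ u ∈ U, σ γ u ∈ U) (hrQ : ∀ q ∈ Q, Commute r (σ q)) :
    ∃ e : Module.End k M, IsProj U e ∧ ∀ γ, Commute e (σ γ) := by
  classical
  haveI : Fintype (Γ ⧸ Q) := Fintype.ofFinite _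
  let A : Γ ⧸ Q → Module.End k M := Quotient.lift (fun γ => σ γ * r * σ γ⁻¹) fun γ γ' h => by
    replace h := QuotientGroup.leftRel_apply.mp h
    obtain ⟨q, hq, rfl⟩ : ∃ q ∈ Q, γ' = γ * q := ⟨_, h, by group⟩
    simp only [map_mul, mul_inv_rev]
    calc σ γ * r * σ γ⁻¹ = σ γ * (r * (σ q * σ q⁻¹)) * σ γ⁻¹ := by
          rw [← map_mul, mul_inv_cancel, map_one, mul_one]
      _ = σ γ * σ q * r * (σ q⁻¹ * σ γ⁻¹) := by
          rw [← mul_assoc r, (hrQ q hq).eq]; simp only [mul_assoc]
  have hA : ∀ γ c, σ γ * A c * σ γ⁻¹ = A (γ • c) := by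
    intro γ c
    induction c using QuotientGroup.induction_on with
    | H δ =>
      show σ γ * (σ δ * r * σ δ⁻¹) * σ γ⁻¹ = σ (γ * δ) * r * σ (γ * δ)⁻¹
      simp only [mul_inv_rev, map_mul, mul_assoc]
  have hn : (Fintype.card (Γ ⧸ Q) : k) ≠ 0 := by
    rw [← Nat.card_eq_fintype_card, ← Subgroup.index_eq_card]
    exact fun h => hidx ((CharP.cast_eq_zero_iff k p _).mp h)
  refine ⟨(Fintype.card (Γ ⧸ Q) : k)⁻¹ • ∑ c, A c, ⟨fun w => ?_, fun u hu => ?_⟩, fun γ => ?_⟩
  · rw [LinearMap.smul_apply, LinearMap.sum_apply]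
    refine U.smul_mem _ (U.sum_mem fun c _ => ?_)
    induction c using QuotientGroup.induction_on with
    | H δ => exact hU δ _ (hr.map_mem _)
  · rw [LinearMap.smul_apply, LinearMap.sum_apply, sum_congr rfl (g := fun _ => u) fun c _ => ?_,
      sum_const, card_univ, ← Nat.cast_smul_eq_nsmul k, inv_smul_smul₀ hn]
    induction c using QuotientGroup.induction_on with
    | H δ =>
      show σ δ (r (σ δ⁻¹ u)) = u
      rw [hr.map_id _ (hU _ u hu), ← Module.End.mul_apply, ← map_mul, mul_inv_cancel, map_one,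
        Module.End.one_apply]
  · refine Commute.smul_left ?_ _
    have h1 : σ γ * (∑ c, A c) * σ γ⁻¹ = ∑ c, A c := by
      rw [mul_sum, sum_mul]
      exact Fintype.sum_equiv (MulAction.toPerm γ) _ _ fun c => hA γ c
    show (∑ c, A c) * σ γ = σ γ * ∑ c, A c
    conv_lhs => rw [← h1, mul_assoc, ← map_mul, inv_mul_cancel, map_one, mul_one]

variable {G : Type*} [Group G] [Finite G] (σ : G →* Module.End k M) {x : G}

theorem mem_normalizer_of_conj {K : Subgroup G} {g : G} (h : ∀ z ∈ K, g * z * g⁻¹ ∈ K) :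
    g ∈ normalizer (K : Set G) := by
  have : Finite K := Subtype.finite
  rw [mem_normalizer_iff_map_conj_eq]
  refine Subgroup.eq_of_le_of_card_ge ?_ (le_of_eq ?_)
  · rintro _ ⟨z, hz, rfl⟩
    exact h z hz
  · exact Nat.card_congr (Subgroup.equivMapOfInjective K _ (MulEquiv.injective _)).toEquiv

theorem mem_normalizer_of_fix (hx : orderOf x = p) (hsq : ¬ p ^ 2 ∣ Nat.card G) {g : G}
    (hg : g⁻¹ * x * g ∈ normalizer ((zpowers x : Subgroup G) : Set G)) :
    g ∈ normalizer ((zpowers x : Subgroup G) : Set G) := by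
  classical
  obtain ⟨S, rfl⟩ := DefectOne.exists_localData hx hsq
  have hy : (g⁻¹ * S.x * g) ^ p = 1 := by
    rw [show g⁻¹ * S.x * g = g⁻¹ * S.x * g⁻¹⁻¹ by rw [inv_inv], conj_pow, S.x_pow_p]; group
  have h1 := DefectOne.mem_zpowers_of_normalizing S hy
    ((mem_normalizer_iff.mp hg S.x).mp (mem_zpowers _))
  rw [← inv_mem_iff]
  refine mem_normalizer_of_conj fun z hz => ?_
  obtain ⟨i, rfl⟩ := mem_zpowers_iff.mp hz
  rw [inv_inv, show g⁻¹ * S.x ^ i * g = (g⁻¹ * S.x * g) ^ i by
    have := @conj_zpow G _ i g⁻¹ S.x; rw [inv_inv] at this; exact this.symm]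
  exact zpow_mem h1 i

theorem commute_T {f : Module.End k M} (h : Commute f (σ x)) : Commute f (σ x - 1) :=
  h.sub_right (Commute.one_right f)

theorem commute_of_commute_T {f : Module.End k M} (h : Commute f (σ x - 1)) :
    Commute f (σ x) := by
  have := h.add_right (Commute.one_right f)
  rwa [sub_add_cancel] at this

theorem pow_sub_mem_range (i : ℕ) (w : M) :
    ((σ x⁻¹) ^ i) w - w ∈ range (σ x - 1) := by
  induction i with
  | zero => simp
  | succ i ih =>
    rw [pow_succ', Module.End.mul_apply, ← sub_add_sub_cancel _ ((σ x⁻¹ ^ i) w) w]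
    refine add_mem ⟨-(σ x⁻¹ ((σ x⁻¹ ^ i) w)), ?_⟩ ih
    rw [LinearMap.sub_apply, Module.End.one_apply, map_neg, ← Module.End.mul_apply, ← map_mul,
      mul_inv_cancel, map_one, Module.End.one_apply]
    abel

/-- Lifting of idempotents. -/
theorem lift_idem (hx : orderOf x = p) (hsq : ¬ p ^ 2 ∣ Nat.card G)
    (hT : (σ x - 1) ^ (p - 1) = 0) {e : Module.End k M} (he : IsIdempotentElem e)
    (hN : ∀ n ∈ normalizer ((zpowers x : Subgroup G) : Set G), Commute e (σ n)) :
    ∃ a : Module.End k M, IsIdempotentElem a ∧ (∀ g, Commute a (σ g)) ∧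
      Small (σ x - 1) (a - e) := by
  classical
  set N := normalizer ((zpowers x : Subgroup G) : Set G) with hNdef
  haveI : Fintype (G ⧸ N) := Fintype.ofFinite _
  have hxN : x ∈ N := le_normalizer (mem_zpowers x)
  let A : G ⧸ N → Module.End k M := Quotient.lift (fun g => σ g * e * σ g⁻¹) fun g g' h => by
    replace h := QuotientGroup.leftRel_apply.mp h
    obtain ⟨n, hn, rfl⟩ : ∃ n ∈ N, g' = g * n := ⟨_, h, by group⟩
    simp only [map_mul, mul_inv_rev]
    calc σ g * e * σ g⁻¹ = σ g * (e * (σ n * σ n⁻¹)) * σ g⁻¹ := by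
          rw [← map_mul σ n, mul_inv_cancel, map_one, mul_one]
      _ = σ g * σ n * e * (σ n⁻¹ * σ g⁻¹) := by
          rw [← mul_assoc e, (hN n hn).eq]; simp only [mul_assoc]
  have hA : ∀ g c, σ g * A c * σ g⁻¹ = A (g • c) := by
    intro g c
    induction c using QuotientGroup.induction_on with
    | H δ =>
      show σ g * (σ δ * e * σ δ⁻¹) * σ g⁻¹ = σ (g * δ) * e * σ (g * δ)⁻¹
      simp only [mul_inv_rev, map_mul, mul_assoc]
  have hcomm : ∀ g, Commute (∑ c, A c) (σ g) := by
    intro g
    have h1 : σ g * (∑ c, A c) * σ g⁻¹ = ∑ c, A c := by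
      rw [mul_sum, sum_mul]
      exact Fintype.sum_equiv (MulAction.toPerm g) _ _ fun c => hA g c
    show (∑ c, A c) * σ g = σ g * ∑ c, A c
    conv_lhs => rw [← h1, mul_assoc, ← map_mul, inv_mul_cancel, map_one, mul_one]
  -- representatives of the orbits of `⟨x⟩` on the nontrivial cosets
  let base : G ⧸ N := QuotientGroup.mk 1
  let rep : G ⧸ N → G ⧸ N := fun c => (Quotient.mk (MulAction.orbitRel (zpowers x) (G ⧸ N)) c).out
  have hrep1 : ∀ c, ∃ i : ℕ, i < p ∧ x ^ i • c = rep c := by
    intro c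
    have h := Quotient.mk_out (s := MulAction.orbitRel (zpowers x) (G ⧸ N)) c
    obtain ⟨⟨q, hq⟩, hqc⟩ := h
    obtain ⟨i, hi, rfl⟩ : ∃ i < p, x ^ i = q := by
      obtain ⟨i, hi⟩ := (Submonoid.mem_powers_iff _ _).mp (mem_powers_iff_mem_zpowers.mpr hq)
      exact ⟨i % p, Nat.mod_lt _ hp.out.pos, by rw [← hx, pow_mod_orderOf, hi]⟩
    exact ⟨i, hi, hqc⟩
  have hrep2 : ∀ (c : G ⧸ N) (i : ℕ), rep (x ^ i • c) = rep c := by
    intro c i
    simp only [rep]
    congr 1
    exact Quotient.sound ⟨⟨x ^ i, pow_mem (mem_zpowers x) i⟩, rfl⟩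
  have hbase : ∀ i : ℕ, x ^ i • base = base := by
    intro i
    show QuotientGroup.mk (x ^ i * 1) = _
    rw [QuotientGroup.eq, mul_one, mul_one]
    exact inv_mem (pow_mem hxN i)
  have hfree : ∀ c, c ≠ base → ∀ i j : ℕ, i < p → j < p → x ^ i • c = x ^ j • c → i = j := by
    intro c hc
    have key : ∀ i j : ℕ, i ≤ j → j < p → x ^ i • c = x ^ j • c → i = j := by
      intro i j hij hj h
      by_contra hne
      obtain ⟨d, rfl⟩ := Nat.exists_eq_add_of_le hij
      have hd : ¬ p ∣ d := fun hd => by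
        have := Nat.le_of_dvd (by omega) hd; omega
      have h1 : x ^ d • c = c := by
        rw [pow_add, mul_smul] at h
        exact (MulAction.injective (x ^ i) h).symm
      obtain ⟨u, hu⟩ : ∃ u, (x ^ d) ^ u = x := by
        obtain ⟨u, hu⟩ := Nat.exists_mul_mod_eq_one_of_coprime
          ((hp.out.coprime_iff_not_dvd.mpr hd).symm) hp.out.one_lt
        exact ⟨u, by rw [← pow_mul, ← pow_mod_orderOf, hx, hu.2, pow_one]⟩
      have h2 : x • c = c := by
        have h3 : ∀ u : ℕ, (x ^ d) ^ u • c = c := by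
          intro u
          induction u with
          | zero => rw [pow_zero, one_smul]
          | succ u ih => rw [pow_succ, mul_smul, h1, ih]
        rw [← hu, h3]
      refine hc ?_
      induction c using QuotientGroup.induction_on with
      | H g =>
        have h4 : QuotientGroup.mk (x * g) = (QuotientGroup.mk g : G ⧸ N) := h2
        rw [QuotientGroup.eq] at h4
        have h5 : g⁻¹ * x * g ∈ N := by
          have := inv_mem h4
          simpa [mul_assoc] using this
        rw [QuotientGroup.eq, mul_one]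
        exact inv_mem (mem_normalizer_of_fix hx hsq h5)
    intro i j hi hj h
    rcases le_total i j with hij | hij
    · exact key i j hij hj h
    · exact (key j i hij hi h.symm).symm
  let φ : G ⧸ N → k := fun c => if c ≠ base ∧ rep c = c then 1 else 0
  have hφsum : ∀ c, ∑ i ∈ Finset.range p, φ (x ^ i • c) = if c = base then 0 else 1 := by
    intro c
    split_ifs with hc
    · exact sum_eq_zero fun i _ => if_neg fun h => h.1 (by rw [hc, hbase])
    obtain ⟨i, hi, hic⟩ := hrep1 c
    rw [sum_eq_single i ?_ (fun h => absurd (Finset.mem_range.mpr hi) h)]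
    · refine if_pos ⟨fun h => hc ?_, by rw [hrep2]; exact hic.symm⟩
      exact MulAction.injective (x ^ i) (h.trans (hbase i).symm)
    · intro j hj hji
      refine if_neg fun h => hji (hfree c hc j i (Finset.mem_range.mp hj) hi ?_)
      rw [← h.2, hrep2, hic]
  set h' : Module.End k M := ∑ c, φ c • A c with hh'
  have hsum : (∑ c, A c) - e = ∑ i ∈ Finset.range p, (σ x⁻¹) ^ i * h' * (σ x) ^ i := by
    have hb : A base = e := by show σ 1 * e * σ 1⁻¹ = e; simp
    have h1 : (∑ c, A c) - e = ∑ c, (if c = base then (0 : k) else 1) • A c := by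
      have h2 : ∀ c, (if c = base then (0 : k) else 1) • A c = if c = base then 0 else A c := by
        intro c; split_ifs <;> simp
      simp only [h2]
      rw [← sum_erase_add _ _ (mem_univ base), ← sum_erase_add _ (fun c => if c = base then 0 else A c)
        (mem_univ base), if_pos rfl, hb, add_sub_cancel_right, add_zero]
      exact sum_congr rfl fun c hc => (if_neg (ne_of_mem_erase hc)).symm
    rw [h1]
    simp only [← hφsum, sum_smul]
    rw [sum_comm]
    refine sum_congr rfl fun i _ => ?_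
    rw [hh', mul_sum, sum_mul, ← map_pow σ, ← map_pow σ, inv_pow]
    refine (Fintype.sum_equiv (MulAction.toPerm (x ^ i)⁻¹) _ _ fun c => ?_).symm
    show σ (x ^ i)⁻¹ * φ c • A c * σ (x ^ i) = φ (x ^ i • (x ^ i)⁻¹ • c) • A ((x ^ i)⁻¹ • c)
    rw [smul_inv_smul, ← hA, inv_inv, mul_smul_comm, smul_mul_assoc]
  have hsmall : Small (σ x - 1) ((∑ c, A c) - e) := by
    refine ⟨commute_T σ ((hcomm x).sub_left (hN x hxN)), ?_⟩
    rintro _ ⟨w, rfl⟩
    rw [hsum, LinearMap.sum_apply]
    have h1 : ∑ i ∈ Finset.range p, ((σ x⁻¹) ^ i * h' * (σ x) ^ i) w =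
        ∑ i ∈ Finset.range p, (((σ x⁻¹) ^ i) (h' ((σ x ^ i) w)) - h' ((σ x ^ i) w)) := by
      rw [sum_sub_distrib, ← map_sum, ← LinearMap.sum_apply (Finset.range p) (fun i => σ x ^ i),
        sum_pow_eq (k := k) (p := p), hT, LinearMap.zero_apply, map_zero, sub_zero]
      exact sum_congr rfl fun i _ => rfl
    rw [h1]
    exact Submodule.sum_mem _ fun i _ => pow_sub_mem_range σ i _
  obtain ⟨a', ha', hac, has⟩ := exists_idem_lift hT he (commute_T σ (hN x hxN))
    (commute_T σ (hcomm x)) hsmall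
  exact ⟨a', ha', fun g => (hac _ (hcomm g).symm).symm, has⟩

variable {σ}

theorem fixed_of_gen (hgen : Subgroup.closure {y : G | ∃ g, y = g * x * g⁻¹} = ⊤)
    {U : Submodule k M} (hU : ∀ g, ∀ u ∈ U, σ g u ∈ U) (hxU : ∀ u ∈ U, σ x u = u) (g : G)
    {u : M} (hu : u ∈ U) : σ g u = u := by
  have hmem : g ∈ Subgroup.closure {y : G | ∃ g, y = g * x * g⁻¹} := hgen ▸ Subgroup.mem_top g
  induction hmem using Subgroup.closure_induction generalizing u with
  | mem y hy =>
    obtain ⟨c, rfl⟩ := hy
    rw [map_mul, map_mul, Module.End.mul_apply, Module.End.mul_apply, hxU _ (hU _ u hu),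
      ← Module.End.mul_apply, ← map_mul, mul_inv_cancel, map_one, Module.End.one_apply]
  | one => rw [map_one, Module.End.one_apply]
  | mul a b _ _ ha hb => rw [map_mul, Module.End.mul_apply, hb hu, ha hu]
  | inv a _ ha =>
    conv_lhs => rw [← ha hu]
    rw [← Module.End.mul_apply, ← map_mul, inv_mul_cancel, map_one, Module.End.one_apply]

theorem invariant_range {a : Module.End k M} (ha : ∀ g, Commute a (σ g)) (g : G) {u : M}
    (hu : u ∈ range a) : σ g u ∈ range a := by
  obtain ⟨w, rfl⟩ := hu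
  exact ⟨σ g w, by rw [← Module.End.mul_apply, (ha g).eq, Module.End.mul_apply]⟩

/-- Every vector fixed by `x` is congruent to a fixed vector of the group. -/
theorem fixed_congr (hx : orderOf x = p) (hsq : ¬ p ^ 2 ∣ Nat.card G)
    (hgen : Subgroup.closure {y : G | ∃ g, y = g * x * g⁻¹} = ⊤)
    (hT : (σ x - 1) ^ (p - 1) = 0) {f : M} (hf : σ x f = f) :
    ∃ w, (∀ g, σ g w = w) ∧ w - f ∈ range (σ x - 1) := by
  classical
  set N := normalizer ((zpowers x : Subgroup G) : Set G) with hNdef
  set T := σ x - 1 with hTdef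
  set F := ker T with hF
  have hmemF : ∀ v, v ∈ F ↔ σ x v = v := fun v => by
    rw [hF, LinearMap.mem_ker, hTdef, LinearMap.sub_apply, Module.End.one_apply, sub_eq_zero]
  have hxpow : ∀ v ∈ F, ∀ i : ℕ, σ (x ^ i) v = v := by
    intro v hv i
    induction i with
    | zero => rw [pow_zero, map_one, Module.End.one_apply]
    | succ i ih => rw [pow_succ, map_mul, Module.End.mul_apply, (hmemF v).mp hv, ih]
  have hFN : ∀ n ∈ N, ∀ v ∈ F, σ n v ∈ F := by
    intro n hn v hv
    rw [hmemF]
    have hm := (mem_normalizer_iff''.mp hn x).mp (mem_zpowers x)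
    obtain ⟨i, hi⟩ := (Submonoid.mem_powers_iff _ _).mp (mem_powers_iff_mem_zpowers.mpr hm)
    rw [← Module.End.mul_apply, ← map_mul, show x * n = n * (x ^ i) by rw [hi]; group, map_mul,
      Module.End.mul_apply, hxpow v hv i]
  haveI : Finite N := Subtype.finite
  let σF : N →* Module.End k F :=
    { toFun := fun n => (σ (n : G)).restrict (hFN n n.2)
      map_one' := LinearMap.ext fun v => Subtype.ext (by simp [LinearMap.restrict_apply])
      map_mul' := fun a b => LinearMap.ext fun v => Subtype.ext (by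
        simp [LinearMap.restrict_apply]) }
  let Q : Subgroup N := (zpowers x).subgroupOf N
  have hidx : ¬ p ∣ Q.index := by
    intro hd
    refine hsq ?_
    have h1 := Q.card_mul_index
    have h2 : Nat.card Q = p := by
      rw [Nat.card_congr (Subgroup.subgroupOfEquivOfLe le_normalizer).toEquiv, Nat.card_zpowers, hx]
    rw [h2] at h1
    exact ((sq p).symm ▸ Nat.mul_dvd_mul_left p hd).trans (h1 ▸ N.card_subgroup_dvd_card)
  let Z0 : Submodule k F := (range T).comap F.subtype
  obtain ⟨C0, hC0⟩ := Z0.exists_isCompl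
  have hq0 : IsProj Z0 (Z0.projection C0 hC0) :=
    ⟨fun v => Submodule.projection_apply_mem hC0 v, fun v hv => Submodule.projection_apply_of_mem_left hC0 hv⟩
  have hTN : ∀ n ∈ N, ∀ w, σ n (T w) ∈ range T := by
    intro n hn w
    obtain ⟨i, hi⟩ := (Submonoid.mem_powers_iff _ _).mp (mem_powers_iff_mem_zpowers.mpr
      ((mem_normalizer_iff.mp hn x).mp (mem_zpowers x)))
    have hr : σ (x ^ i) (σ n w) - σ n w ∈ range T := by
      have h3 : ∀ i : ℕ, σ (x ^ i) (σ n w) - σ n w ∈ range T := by
        intro i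
        induction i with
        | zero => simp
        | succ i ih =>
          rw [pow_succ', map_mul, Module.End.mul_apply,
            ← sub_add_sub_cancel _ (σ (x ^ i) (σ n w)) (σ n w)]
          exact add_mem ⟨σ (x ^ i) (σ n w), rfl⟩ ih
      exact h3 i
    have : σ n (T w) = σ (x ^ i) (σ n w) - σ n w := by
      rw [hTdef, LinearMap.sub_apply, Module.End.one_apply, map_sub, ← Module.End.mul_apply,
        ← map_mul, ← Module.End.mul_apply, ← map_mul, hi]
      group
    rwa [this]
  obtain ⟨q, hq, hqN⟩ := exists_equivariant_proj σF Q hidx hq0 (fun n u hu => by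
      obtain ⟨w, hw⟩ := hu
      show σ (n : G) (u : M) ∈ range T
      rw [← show T w = (u : M) from hw]
      exact hTN _ n.2 w) (fun c hc => by
      obtain ⟨i, hi⟩ := (Submonoid.mem_powers_iff _ _).mp (mem_powers_iff_mem_zpowers.mpr
        (mem_subgroupOf.mp hc))
      have : σF c = 1 := LinearMap.ext fun v => Subtype.ext (by
        show σ (c : G) (v : M) = v
        rw [← hi]; exact hxpow _ v.2 i)
      rw [this]; exact Commute.one_right _)
  let S : Submodule k M := (ker q).map F.subtype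
  have hSF : ∀ v ∈ S, v ∈ F := by rintro _ ⟨v, -, rfl⟩; exact v.2
  have hSN : ∀ n ∈ N, ∀ v ∈ S, σ n v ∈ S := by
    rintro n hn _ ⟨v, hv, rfl⟩
    refine ⟨σF ⟨n, hn⟩ v, ?_, rfl⟩
    rw [SetLike.mem_coe, LinearMap.mem_ker, ← Module.End.mul_apply, (hqN _).eq,
      Module.End.mul_apply, LinearMap.mem_ker.mp hv, map_zero]
  have hinj : ker ((range T).mkQ ∘ₗ S.subtype) = ⊥ := by
    rw [LinearMap.ker_eq_bot']
    rintro ⟨v, hv⟩ h
    obtain ⟨u, hu, rfl⟩ := hv
    have h1 : u ∈ Z0 := Submodule.mem_comap.mpr ((Submodule.Quotient.mk_eq_zero _).mp h)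
    have : u = 0 := by rw [← hq.map_id u h1]; exact LinearMap.mem_ker.mp hu
    exact Subtype.ext (by simp [this])
  obtain ⟨L, hL⟩ := LinearMap.exists_leftInverse_of_injective _ hinj
  let r : Module.End k M := S.subtype ∘ₗ L ∘ₗ (range T).mkQ
  have hr : IsProj S r := by
    refine ⟨fun w => (L ((range T).mkQ w)).2, fun v hv => ?_⟩
    exact congrArg Subtype.val (LinearMap.congr_fun hL ⟨v, hv⟩)
  have hrx : Commute r (σ x) := by
    refine commute_of_commute_T σ ?_
    have h1 : r * T = 0 := LinearMap.ext fun w => by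
      show ((L ((range T).mkQ (T w)) : S) : M) = 0
      rw [show (range T).mkQ (T w) = 0 from (Submodule.Quotient.mk_eq_zero _).mpr ⟨w, rfl⟩, map_zero]
      rfl
    have h2 : T * r = 0 := LinearMap.ext fun w =>
      LinearMap.mem_ker.mp (hSF _ (hr.map_mem w))
    show r * T = T * r
    rw [h1, h2]
  let σN : N →* Module.End k M := σ.comp N.subtype
  obtain ⟨e, he, heN⟩ := exists_equivariant_proj σN Q hidx hr (fun n v hv => hSN _ n.2 v hv)
    (fun c hc => by
      obtain ⟨i, hi⟩ := (Submonoid.mem_powers_iff _ _).mp (mem_powers_iff_mem_zpowers.mpr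
        (mem_subgroupOf.mp hc))
      show Commute r (σ (c : G))
      rw [← hi, map_pow]; exact hrx.pow_right i)
  obtain ⟨a, ha, haG, has⟩ := lift_idem σ hx hsq hT he.isIdempotentElem fun n hn => heN ⟨n, hn⟩
  -- split `f`
  let f' : F := ⟨f, (hmemF f).mpr hf⟩
  have hz : ((q f' : F) : M) ∈ range T := hq.map_mem f'
  have hs : (f' - q f' : F).1 ∈ S := ⟨f' - q f', by
    rw [SetLike.mem_coe, LinearMap.mem_ker, map_sub, hq.map_id _ (hq.map_mem f'), sub_self], rfl⟩
  have hs' : f - (q f' : M) ∈ range e := ⟨f - (q f' : M), he.map_id _ hs⟩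
  obtain ⟨v, hv, hev⟩ := idem_surj hT ha he.isIdempotentElem has hs'
  have hTa : ∀ u ∈ range a, σ x u = u := by
    intro u hu
    refine sub_eq_zero.mp (idem_inj hT ha has (sub_mem (invariant_range haG x hu) hu) ?_)
    have h1 : e u ∈ F := hSF _ (he.map_mem u)
    have h2 : Commute e (σ x) := heN ⟨x, le_normalizer (mem_zpowers x)⟩
    rw [map_sub, ← Module.End.mul_apply, h2.eq, Module.End.mul_apply]
    exact sub_eq_zero.mpr ((hmemF _).mp h1)
  refine ⟨v, fun g => fixed_of_gen hgen (fun g u hu => invariant_range haG g hu) hTa g hv, ?_⟩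
  obtain ⟨w, rfl⟩ := hv
  have h1 : a w - f = (a - e) (a w) - (q f' : M) := by
    rw [LinearMap.sub_apply, hev, ← Module.End.mul_apply, ha.eq]; abel
  rw [h1]
  exact sub_mem (has.range_le ⟨_, rfl⟩) hz

/-- A block that is not pushed down gives an invariant block. -/
theorem exists_block_submodule (hx : orderOf x = p) (hsq : ¬ p ^ 2 ∣ Nat.card G)
    (hT : (σ x - 1) ^ (p - 1) = 0) {y : G} (hy : y * x * y⁻¹ ∈ zpowers x)
    (hcov : ∀ n ∈ normalizer ((zpowers x : Subgroup G) : Set G),
      ∃ i j : ℕ, σ n = σ y ^ j * σ x ^ i)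
    (hypow : σ y ^ (p - 1) = 1) {s : ℕ} {f : M} (hf : ((σ x - 1) ^ (s + 1)) f = 0)
    (hf' : ((σ x - 1) ^ s) f ∉ range ((σ x - 1) ^ (s + 1))) :
    ∃ a : Module.End k M, IsIdempotentElem a ∧ (∀ g, Commute a (σ g)) ∧
      finrank k (range a) = s + 1 ∧ ∃ v ∈ range a, ((σ x - 1) ^ s) v ≠ 0 := by
  classical
  set T := σ x - 1 with hTdef
  have hyN : y ∈ normalizer ((zpowers x : Subgroup G) : Set G) := by
    refine mem_normalizer_of_conj fun z hz => ?_
    obtain ⟨i, rfl⟩ := mem_zpowers_iff.mp hz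
    rw [← conj_zpow]
    exact zpow_mem hy i
  -- moving `y` past the powers of `T`
  have hmove : ∀ (n : G), n * x * n⁻¹ ∈ zpowers x →
      ∃ q : Module.End k M, Commute q T ∧ ∀ t : ℕ, σ n * T ^ t = T ^ t * q ^ t * σ n := by
    intro n hn
    obtain ⟨i, hi⟩ := (Submonoid.mem_powers_iff _ _).mp (mem_powers_iff_mem_zpowers.mpr hn)
    have hq : Commute (∑ l ∈ Finset.range i, σ x ^ l) T :=
      Commute.sum_left _ _ _ fun l _ => commute_T σ ((Commute.refl _).pow_left l)
    refine ⟨_, hq, fun t => ?_⟩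
    have h1 : σ n * T = T * (∑ l ∈ Finset.range i, σ x ^ l) * σ n := by
      rw [← hq.eq, hTdef, geom_sum_mul, sub_mul, one_mul, mul_sub, mul_one, ← map_pow, hi,
        ← map_mul, ← map_mul]
      group
    induction t with
    | zero => simp
    | succ t ih =>
      rw [pow_succ T t, ← mul_assoc, ih, mul_assoc _ (σ n) T, h1, pow_succ _ t]
      simp only [← mul_assoc]
      rw [mul_assoc (T ^ t) _ T, (hq.pow_left t).eq, ← mul_assoc]
  have hyi : y⁻¹ * x * y⁻¹⁻¹ ∈ zpowers x :=
    (mem_normalizer_iff.mp (inv_mem hyN) x).mp (mem_zpowers x)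
  -- an eigenvector
  set A := σ y with hA
  have hAinv : σ y * σ y⁻¹ = 1 := by rw [← map_mul, mul_inv_cancel, map_one]
  have hker : ∀ t, ∀ z, (T ^ t) z = 0 → (T ^ t) (A z) = 0 := by
    intro t z hz
    obtain ⟨q, hq, hq'⟩ := hmove _ hyi
    have h1 : σ y⁻¹ ((T ^ t) (A z)) = 0 := by
      rw [← Module.End.mul_apply, hq', ((hq.pow_left t).pow_right t).symm.eq,
        Module.End.mul_apply, Module.End.mul_apply, ← Module.End.mul_apply (σ y⁻¹), ← map_mul,
        inv_mul_cancel, map_one, Module.End.one_apply, hz, map_zero]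
    have := congrArg (σ y) h1
    rwa [map_zero, ← Module.End.mul_apply, hAinv, Module.End.one_apply] at this
  have hran : ∀ t, ∀ z ∈ range (T ^ t), A z ∈ range (T ^ t) := by
    rintro t _ ⟨w, rfl⟩
    obtain ⟨q, hq, hq'⟩ := hmove _ hy
    exact ⟨(q ^ t) (A w), by
      rw [← Module.End.mul_apply, ← Module.End.mul_apply, ← hq', Module.End.mul_apply]⟩
  have hroots : ∀ c : (ZMod p)ˣ, ((c : ZMod p).val : k) ^ (p - 1) = 1 := by
    intro c
    have h : ((ZMod.castHom (dvd_refl p) k) (c : ZMod p)) ^ (p - 1) = 1 := by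
      rw [← map_pow, ZMod.pow_card_sub_one_eq_one c.ne_zero, map_one]
    rwa [ZMod.castHom_apply, ← ZMod.natCast_val] at h
  let ι : ZMod p →+* k := ZMod.castHom (dvd_refl p) k
  let E : (ZMod p)ˣ → Module.End k M := fun c =>
    ∑ j ∈ Finset.range (p - 1), ι ((c : ZMod p) ^ j) • A ^ j
  have hEsum : ∑ c : (ZMod p)ˣ, E c = (((p - 1 : ℕ) : ZMod p) |> ι) • 1 := by
    simp only [E]
    rw [sum_comm, sum_eq_single 0]
    · simp [ZMod.card_units p, Nat.cast_smul_eq_nsmul k]
    · intro j hj hj0
      rw [← sum_smul, ← map_sum]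
      rw [FiniteField.sum_pow_units (ZMod p) j, if_neg, map_zero, zero_smul]
      rw [ZMod.card]
      intro hd
      have := Nat.le_of_dvd (Nat.pos_of_ne_zero hj0) hd
      have := Finset.mem_range.mp hj
      omega
    · intro h
      exact absurd (Finset.mem_range.mpr (by have := hp.out.two_le; omega)) h
  have hEeig : ∀ (c : (ZMod p)ˣ) w, A (E c w) = ι ((c⁻¹ : (ZMod p)ˣ) : ZMod p) • E c w := by
    intro c w
    have h1 : A * E c = ι ((c⁻¹ : (ZMod p)ˣ) : ZMod p) • E c := by
      simp only [E, mul_sum, smul_sum, mul_smul_comm, smul_smul, ← pow_succ']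
      rw [← sub_eq_zero, ← sum_sub_distrib,
        sum_congr rfl fun j _ => show _ =
          ι ((c⁻¹ : (ZMod p)ˣ) : ZMod p) • (ι ((c : ZMod p) ^ (j + 1)) • A ^ (j + 1) -
            ι ((c : ZMod p) ^ j) • A ^ j) by
          rw [smul_sub, smul_smul, smul_smul, ← map_mul, ← map_mul, pow_succ' (c : ZMod p), ← mul_assoc,
            Units.inv_mul, one_mul],
        ← smul_sum, sum_range_sub (fun j => ι ((c : ZMod p) ^ j) • A ^ j), pow_zero, pow_zero,
        ZMod.pow_card_sub_one_eq_one c.ne_zero, hypow, sub_self, smul_zero]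
    rw [← Module.End.mul_apply, h1, LinearMap.smul_apply]
  have hEker : ∀ c, ∀ z, (T ^ (s + 1)) z = 0 → (T ^ (s + 1)) (E c z) = 0 := by
    intro c z hz
    have : ∀ j, (T ^ (s + 1)) ((A ^ j) z) = 0 := by
      intro j
      induction j with
      | zero => simpa using hz
      | succ j ih => rw [pow_succ' A, Module.End.mul_apply]; exact hker _ _ ih
    simp only [E, LinearMap.sum_apply, LinearMap.smul_apply, map_sum, map_smul, this, smul_zero,
      sum_const_zero]
  obtain ⟨c, hc⟩ : ∃ c, (T ^ s) (E c f) ∉ range (T ^ (s + 1)) := by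
    by_contra h
    push Not at h
    apply hf'
    have h1 := Submodule.sum_mem _ fun c (_ : c ∈ (univ : Finset (ZMod p)ˣ)) => h c
    rw [← map_sum, ← LinearMap.sum_apply, hEsum, LinearMap.smul_apply, Module.End.one_apply,
      map_smul] at h1
    refine (Submodule.smul_mem_iff _ ?_).mp h1
    rw [ne_eq, map_eq_zero, ZMod.natCast_eq_zero_iff]
    intro hd
    have h2 := hp.out.two_le
    have := Nat.le_of_dvd (show 0 < p - 1 by omega) hd
    omega
  set g := E c f with hg
  have hgker : (T ^ (s + 1)) g = 0 := hEker c f hf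
  obtain ⟨φ, hφ, hφ0⟩ := Submodule.exists_dual_map_eq_bot_of_notMem hc inferInstance
  have hφ0' : ∀ w, φ ((T ^ (s + 1)) w) = 0 := fun w => by
    have : φ ((T ^ (s + 1)) w) ∈ (range (T ^ (s + 1))).map φ := ⟨_, ⟨w, rfl⟩, rfl⟩
    rwa [hφ0, Submodule.mem_bot] at this
  obtain ⟨r, hrT, hr, hrank⟩ := exists_retraction hgker φ hφ hφ0'
  have hUT : ∀ u ∈ chain T g (s + 1), T u ∈ chain T g (s + 1) := fun u hu => map_chain_le hgker hu
  have hUx : ∀ u ∈ chain T g (s + 1), σ x u ∈ chain T g (s + 1) := fun u hu => by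
    have := add_mem (hUT u hu) hu
    rwa [hTdef, LinearMap.sub_apply, Module.End.one_apply, sub_add_cancel] at this
  have hUy : ∀ u ∈ chain T g (s + 1), A u ∈ chain T g (s + 1) := by
    intro u hu
    induction hu using Submodule.span_induction with
    | zero => rw [map_zero]; exact zero_mem _
    | add a b _ _ ha hb => rw [map_add]; exact add_mem ha hb
    | smul a b _ hb => rw [map_smul]; exact Submodule.smul_mem _ a hb
    | mem u hu =>
      obtain ⟨i, rfl⟩ := hu
      obtain ⟨q, hq, hq'⟩ := hmove _ hy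
      obtain ⟨l, hl⟩ := (Submonoid.mem_powers_iff _ _).mp (mem_powers_iff_mem_zpowers.mpr hy)
      have hqU : ∀ {t : ℕ} {u : M}, u ∈ chain T g (s + 1) → (T ^ t) u ∈ chain T g (s + 1) := by
        intro t u hu
        induction t with
        | zero => simpa using hu
        | succ t ih => rw [pow_succ', Module.End.mul_apply]; exact hUT _ ih
      -- `y` sends the chain into the chain
      have key : ∀ t : ℕ, A ((T ^ t) g) ∈ chain T g (s + 1) := by
        intro t
        induction t with
        | zero =>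
          rw [pow_zero, Module.End.one_apply, hEeig]
          exact Submodule.smul_mem _ _ (by simpa using pow_apply_mem_chain hgker 0)
        | succ t ih =>
          have hstep : A * T = (σ x ^ l - 1) * A := by
            rw [hA, hTdef, mul_sub, sub_mul, mul_one, one_mul, ← map_pow, hl, ← map_mul, ← map_mul]
            group
          rw [pow_succ' T t, Module.End.mul_apply, ← Module.End.mul_apply, hstep,
            Module.End.mul_apply, LinearMap.sub_apply, Module.End.one_apply]
          have hpw : ∀ l : ℕ, ((σ x) ^ l) (A ((T ^ t) g)) ∈ chain T g (s + 1) := by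
            intro l
            induction l with
            | zero => simpa using ih
            | succ l ihl => rw [pow_succ', Module.End.mul_apply]; exact hUx _ ihl
          exact sub_mem (hpw l) ih
      exact key i
  have hUN : ∀ n ∈ normalizer ((zpowers x : Subgroup G) : Set G), ∀ u ∈ chain T g (s + 1),
      σ n u ∈ chain T g (s + 1) := by
    intro n hn u hu
    obtain ⟨i, j, hij⟩ := hcov n hn
    rw [hij, Module.End.mul_apply]
    have h1 : (σ x ^ i) u ∈ chain T g (s + 1) := by
      clear hij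
      induction i generalizing u with
      | zero => simpa using hu
      | succ i ih => rw [pow_succ, Module.End.mul_apply]; exact ih _ (hUx u hu)
    clear hij
    induction j with
    | zero => simpa using h1
    | succ j ih => rw [pow_succ', Module.End.mul_apply]; exact hUy _ ih
  set N := normalizer ((zpowers x : Subgroup G) : Set G) with hNdef
  haveI : Finite N := Subtype.finite
  let Q : Subgroup N := (zpowers x).subgroupOf N
  have hidx : ¬ p ∣ Q.index := by
    intro hd
    refine hsq ?_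
    have h1 := Q.card_mul_index
    have h2 : Nat.card Q = p := by
      rw [Nat.card_congr (Subgroup.subgroupOfEquivOfLe le_normalizer).toEquiv, Nat.card_zpowers, hx]
    rw [h2] at h1
    exact ((sq p).symm ▸ Nat.mul_dvd_mul_left p hd).trans (h1 ▸ N.card_subgroup_dvd_card)
  obtain ⟨e, he, heN⟩ := exists_equivariant_proj (σ.comp N.subtype) Q hidx hr
    (fun n u hu => hUN _ n.2 u hu) (fun q hq => by
      obtain ⟨i, hi⟩ := (Submonoid.mem_powers_iff _ _).mp (mem_powers_iff_mem_zpowers.mpr
        (mem_subgroupOf.mp hq))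
      show Commute r (σ (q : G))
      rw [← hi, map_pow]
      exact (commute_of_commute_T σ hrT).pow_right i)
  obtain ⟨a, ha, haG, has⟩ := lift_idem σ hx hsq hT he.isIdempotentElem fun n hn => heN ⟨n, hn⟩
  refine ⟨a, ha, haG, ?_, ?_⟩
  · rw [finrank_range_eq hT ha he.isIdempotentElem has, he.range, hrank]
  · have hgU : g ∈ range e := ⟨g, he.map_id _ (by simpa using pow_apply_mem_chain hgker 0)⟩
    obtain ⟨v, hv, hev⟩ := idem_surj hT ha he.isIdempotentElem has hgU
    refine ⟨v, hv, fun h0 => hc ?_⟩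
    have hec : Commute e (T ^ s) :=
      (commute_T σ (heN ⟨x, le_normalizer (mem_zpowers x)⟩)).pow_right s
    have : (T ^ s) g = 0 := by
      rw [← hev, ← Module.End.mul_apply, ← hec.eq, Module.End.mul_apply, h0, map_zero]
    rw [this]
    exact zero_mem _

end Cfsg.Agent.Lib.HalfPSL
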