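/-
An irreducible module of small dimension in characteristic `p`: the element of order `p` acts as
one block, its centralizer as scalars, normal `p'`-subgroups as scalars, and the endomorphisms
contain an invariant block of size three.
-/
import Mathlib
import Cfsg.Agent.Lib.Glauberman.Residue
import Cfsg.Agent.Lib.HalfPSL.Lift

set_option autoImplicit false
set_option linter.unusedSectionVars false
set_option linter.style.haveILetI false

namespace Cfsg.Agent.Lib.HalfPSL

open LinearMap Module Finset Subgroup Cfsg.Agent.Lib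

variable {k : Type*} [Field k] {p : ℕ} [hp : Fact p.Prime] [CharP k p]
  {W : Type*} [AddCommGroup W] [Module k W] [FiniteDimensional k W]
  {G : Type*} [Group G] [Finite G]

/-- Conjugation on the endomorphisms. -/
noncomputable def adRep (σ : G →* Module.End k W) : G →* Module.End k (Module.End k W) where
  toFun g := LinearMap.mulLeft k (σ g) * LinearMap.mulRight k (σ g⁻¹)
  map_one' := LinearMap.ext fun f => by simp
  map_mul' a b := LinearMap.ext fun f => by simp [mul_assoc]

@[simp] theorem adRep_apply (σ : G →* Module.End k W) (g : G) (f : Module.End k W) :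
    adRep σ g f = σ g * (f * σ g⁻¹) := rfl

theorem trace_adRep (σ : G →* Module.End k W) (g : G) :
    LinearMap.trace k _ (adRep σ g) = LinearMap.trace k W (σ g⁻¹) * LinearMap.trace k W (σ g) := by
  classical
  let b := Module.finBasis k W
  let B : Module.Basis (Fin (finrank k W) × Fin (finrank k W)) k (Module.End k W) :=
    (Matrix.stdBasis k (Fin (finrank k W)) (Fin (finrank k W))).map (LinearMap.toMatrix b b).symm
  rw [LinearMap.trace_eq_matrix_trace k B, LinearMap.trace_eq_matrix_trace k b (σ g),
    LinearMap.trace_eq_matrix_trace k b (σ g⁻¹), mul_comm (Matrix.trace _)]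
  simp only [Matrix.trace, Matrix.diag_apply]
  rw [Fintype.sum_mul_sum, Fintype.sum_prod_type]
  refine sum_congr rfl fun i _ => sum_congr rfl fun j _ => ?_
  rw [LinearMap.toMatrix_apply B B]
  simp only [B, Module.Basis.map_apply, Module.Basis.map_repr, LinearEquiv.trans_apply,
    LinearEquiv.symm_symm, adRep_apply]
  rw [LinearMap.toMatrix_mul, LinearMap.toMatrix_mul, LinearEquiv.apply_symm_apply,
    Matrix.stdBasis_eq_single]
  simp [Matrix.stdBasis, Matrix.mul_apply, Matrix.single, Pi.basis_repr, ite_and]

variable (σ : G →* Module.End k W) {x : G}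

theorem mul_inv_self (g : G) : σ g * σ g⁻¹ = 1 := by rw [← map_mul, mul_inv_cancel, map_one]

theorem inv_mul_self (g : G) : σ g⁻¹ * σ g = 1 := by rw [← map_mul, inv_mul_cancel, map_one]

theorem T_pow_char (hx : orderOf x = p) : (σ x - 1) ^ p = 0 := by
  have h1 : σ x ^ p = 1 := by rw [← map_pow, ← hx, pow_orderOf_eq_one, map_one]
  have h := congrArg (Polynomial.aeval (σ x))
    (sub_pow_char (R := Polynomial k) (p := p) (x := Polynomial.X) (y := (1 : Polynomial k)))
  simpa [h1] using h

theorem T_pow_finrank (hx : orderOf x = p) : (σ x - 1) ^ finrank k W = 0 := by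
  refine LinearMap.ext fun w => ?_
  rw [LinearMap.zero_apply, ← LinearMap.mem_ker]
  rcases le_total (finrank k W) p with h | h
  · rw [← Module.End.ker_pow_eq_ker_pow_finrank_of_le h, T_pow_char σ hx]
    simp
  · obtain ⟨j, hj⟩ := Nat.exists_eq_add_of_le h
    rw [hj, pow_add, T_pow_char σ hx, zero_mul]
    simp

theorem eq_one_of_nilpotent_sub_one {f : Module.End k W} (hn : IsNilpotent (f - 1)) {d : ℕ}
    (hd : ¬ p ∣ d) (hf : f ^ d = 1) : f = 1 := by
  obtain ⟨N, hN⟩ := hn
  have h1 : f ^ p ^ N = 1 := by
    have h2 := congrArg (Polynomial.aeval f)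
      (sub_pow_char_pow (R := Polynomial k) (p := p) (n := N) (x := Polynomial.X)
        (y := (1 : Polynomial k)))
    simp only [map_pow, map_sub, Polynomial.aeval_X, map_one, one_pow] at h2
    have h3 : (f - 1) ^ p ^ N = 0 := pow_eq_zero_of_le (Nat.lt_pow_self hp.out.one_lt).le hN
    rw [h3] at h2
    exact sub_eq_zero.mp h2.symm
  have h4 := pow_gcd_eq_one.mpr ⟨h1, hf⟩
  rwa [Nat.Coprime.gcd_eq_one (Nat.Coprime.pow_left N (hp.out.coprime_iff_not_dvd.mpr hd)),
    pow_one] at h4

/-- The action of `x` on the endomorphisms has no free part. -/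
theorem adT_pow (hx : orderOf x = p) (hm : 2 * finrank k W ≤ p) :
    (adRep σ x - 1) ^ (p - 1) = 0 := by
  rcases Nat.eq_zero_or_pos (finrank k W) with h0 | hpos
  · haveI : Subsingleton W := finrank_zero_iff.mp h0
    exact Subsingleton.elim _ _
  set T := σ x - 1 with hT
  have hTm := T_pow_finrank σ hx
  rw [← hT] at hTm
  let A : Module.End k (Module.End k W) := LinearMap.mulLeft k T * LinearMap.mulRight k (σ x⁻¹)
  let B : Module.End k (Module.End k W) := LinearMap.mulRight k (σ x⁻¹ - 1)
  have hdec : adRep σ x - 1 = A + B := LinearMap.ext fun f => by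
    simp only [A, B, hT, LinearMap.sub_apply, LinearMap.add_apply, Module.End.mul_apply,
      LinearMap.mulLeft_apply, LinearMap.mulRight_apply, Module.End.one_apply, adRep_apply,
      sub_mul, mul_sub, one_mul, mul_one]
    abel
  have hinv : σ x⁻¹ - 1 = -(T * σ x⁻¹) := by
    rw [hT, sub_mul, mul_inv_self, one_mul]; abel
  have hAB : Commute A B := by
    refine Commute.mul_left (LinearMap.commute_mulLeft_right _ _) ?_
    refine LinearMap.ext fun f => ?_
    simp only [B, Module.End.mul_apply, LinearMap.mulRight_apply]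
    rw [mul_assoc, mul_assoc, show Commute (σ x⁻¹ - 1) (σ x⁻¹) from
      (Commute.refl _).sub_left (Commute.one_left _) |>.eq]
  have hAm : A ^ finrank k W = 0 := by
    rw [(LinearMap.commute_mulLeft_right T (σ x⁻¹)).mul_pow, LinearMap.pow_mulLeft, hTm,
      LinearMap.mulLeft_zero_eq_zero, zero_mul]
  have hBm : B ^ finrank k W = 0 := by
    have hc : Commute T (σ x⁻¹) := by
      rw [hT]
      refine Commute.sub_left ?_ (Commute.one_left _)
      show σ x * σ x⁻¹ = σ x⁻¹ * σ x
      rw [mul_inv_self, inv_mul_self]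
    rw [LinearMap.pow_mulRight, hinv, neg_pow, hc.mul_pow, hTm, zero_mul, mul_zero,
      LinearMap.mulRight_zero_eq_zero]
  rw [hdec]
  exact hAB.add_pow_eq_zero_of_add_le_succ_of_pow_eq_zero hAm hBm (by omega)

theorem adRep_eq_iff {g : G} {f : Module.End k W} : adRep σ g f = f ↔ Commute f (σ g) := by
  rw [adRep_apply, ← mul_assoc]
  constructor
  · intro h
    show f * σ g = σ g * f
    conv_lhs => rw [← h]
    rw [mul_assoc, inv_mul_self, mul_one]
  · intro h
    rw [← h.eq, mul_assoc, mul_inv_self, mul_one]

theorem trace_adT (f : Module.End k W) : LinearMap.trace k W ((adRep σ x - 1) f) = 0 := by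
  rw [LinearMap.sub_apply, map_sub, Module.End.one_apply, adRep_apply, LinearMap.trace_mul_comm,
    mul_assoc, inv_mul_self, mul_one, sub_self]

theorem natCast_eq_zero_of_lt {a : ℕ} (h : (a : k) = 0) (ha : a < p) : a = 0 :=
  Nat.eq_zero_of_dvd_of_lt ((CharP.cast_eq_zero_iff k p a).mp h) ha

theorem natCast_inj_of_lt {a b : ℕ} (ha : a < p) (hb : b < p) (h : (a : k) = b) : a = b := by
  have key : ∀ {a b : ℕ}, a ≤ b → b < p → (a : k) = b → a = b := by
    intro a b hab hb h
    have : ((b - a : ℕ) : k) = 0 := by rw [Nat.cast_sub hab, h, sub_self]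
    have := natCast_eq_zero_of_lt this (by omega)
    omega
  rcases le_total a b with h' | h'
  · exact key h' hb h
  · exact (key h' ha h.symm).symm

variable [IsAlgClosed k]

theorem eq_smul_one_of_irreducible [Nontrivial W]
    (hirr : ∀ U : Submodule k W, (∀ g, ∀ u ∈ U, σ g u ∈ U) → U = ⊥ ∨ U = ⊤)
    {f : Module.End k W} (hf : ∀ g, Commute f (σ g)) : ∃ c : k, f = c • 1 := by
  obtain ⟨c, hc⟩ := Module.End.exists_eigenvalue f
  refine ⟨c, ?_⟩
  rcases hirr (f.eigenspace c) (fun g u hu => by
    rw [Module.End.mem_eigenspace_iff] at hu ⊢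
    rw [← Module.End.mul_apply, (hf g).eq, Module.End.mul_apply, hu, map_smul]) with h | h
  · exact absurd h hc
  · refine LinearMap.ext fun w => ?_
    have : w ∈ f.eigenspace c := h ▸ Submodule.mem_top
    rw [LinearMap.smul_apply, Module.End.one_apply]
    exact Module.End.mem_eigenspace_iff.mp this

/-- One block; centralizing `p'`-elements are scalars. -/
theorem single_and_scalar [Nontrivial W] (hx : orderOf x = p) (hsq : ¬ p ^ 2 ∣ Nat.card G)
    (hgen : Subgroup.closure {y : G | ∃ g, y = g * x * g⁻¹} = ⊤)
    (hirr : ∀ U : Submodule k W, (∀ g, ∀ u ∈ U, σ g u ∈ U) → U = ⊥ ∨ U = ⊤)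
    (hm : 2 * finrank k W < p) :
    Single (σ x - 1) ∧ ∀ v : G, Commute v x → ¬ p ∣ orderOf v → ∃ c : k, σ v = c • 1 := by
  classical
  set m := finrank k W with hmdef
  have hm1 : 0 < m := finrank_pos
  have hmk : (m : k) ≠ 0 := fun h => by have := natCast_eq_zero_of_lt h (by omega); omega
  have hT := adT_pow σ hx hm.le
  have htrone : LinearMap.trace k W (1 : Module.End k W) = m := LinearMap.trace_one k W
  -- the trace on the commutant is multiplicative
  have hmul : ∀ f : Module.End k W, Commute f (σ x) → ∃ c : k, LinearMap.trace k W f = c * m ∧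
      ∀ g, Commute g (σ x) → LinearMap.trace k W (f * g) = c * LinearMap.trace k W g := by
    intro f hf
    obtain ⟨w, hw, h⟩ := fixed_congr (σ := adRep σ) hx hsq hgen hT ((adRep_eq_iff σ).mpr hf)
    obtain ⟨c, rfl⟩ := eq_smul_one_of_irreducible σ hirr fun g => (adRep_eq_iff σ).mp (hw g)
    obtain ⟨z, hz⟩ := h
    refine ⟨c, ?_, fun g hg => ?_⟩
    · have h1 := congrArg (LinearMap.trace k W) hz
      rw [trace_adT, map_sub, map_smul, htrone, smul_eq_mul] at h1
      linear_combination h1
    · have h2 : (c • (1 : Module.End k W) - f) * g = (adRep σ x - 1) (z * g) := by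
        rw [← hz, LinearMap.sub_apply, LinearMap.sub_apply, Module.End.one_apply,
          Module.End.one_apply, adRep_apply, adRep_apply, sub_mul]
        congr 1
        have hg' : Commute g (σ x⁻¹) := by
          show g * σ x⁻¹ = σ x⁻¹ * g
          calc g * σ x⁻¹ = σ x⁻¹ * (σ x * g) * σ x⁻¹ := by rw [← mul_assoc, inv_mul_self, one_mul]
            _ = σ x⁻¹ * g * (σ x * σ x⁻¹) := by rw [← hg.eq]; simp only [mul_assoc]
            _ = σ x⁻¹ * g := by rw [mul_inv_self, mul_one]
        simp only [mul_assoc, hg'.eq]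
      have h1 := congrArg (LinearMap.trace k W) h2
      rw [trace_adT, sub_mul, smul_mul_assoc, one_mul, map_sub, map_smul, smul_eq_mul] at h1
      linear_combination -h1
  have hidem : ∀ r : Module.End k W, Commute r (σ x) → IsIdempotentElem r → r = 0 ∨ r = 1 := by
    intro r hr hre
    obtain ⟨c, hc, hc'⟩ := hmul r hr
    have hproj : IsProj (range r) r :=
      ⟨fun w => ⟨w, rfl⟩, fun _ ⟨w, hw⟩ => by
        rw [← hw, ← Module.End.mul_apply, hre.eq]⟩
    have htr := hproj.trace
    have hle : finrank k (range r) ≤ m := Submodule.finrank_le _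
    have h1 := hc' r hr
    rw [hre.eq, hc] at h1
    have h2 : (c - c * c) * (m : k) = 0 := by linear_combination h1
    rcases mul_eq_zero.mp ((mul_eq_zero.mp h2).resolve_right hmk |> fun h =>
      (show c * (1 - c) = 0 by linear_combination h)) with h3 | h3
    · left
      have h4 : (finrank k (range r) : k) = 0 := by rw [← htr, hc, h3, zero_mul]
      have h5 := natCast_eq_zero_of_lt h4 (by omega)
      rw [Submodule.finrank_eq_zero, LinearMap.range_eq_bot] at h5
      exact h5
    · right
      have h4 : (finrank k (range r) : k) = m := by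
        rw [← htr, hc, ← sub_eq_zero.mp h3, one_mul]
      have h5 := Submodule.eq_top_of_finrank_eq (natCast_inj_of_lt (by omega) (by omega) h4)
      exact LinearMap.ext fun w => hproj.map_id w (h5 ▸ Submodule.mem_top)
  refine ⟨single_of_idem ⟨m, T_pow_finrank σ hx⟩ fun r hr hre =>
    hidem r (commute_of_commute_T σ hr) hre, ?_⟩
  intro v hv hvp
  have hvx : Commute (σ v) (σ x) := hv.map σ
  obtain ⟨c, hc⟩ := Module.End.exists_eigenvalue (σ v)
  refine ⟨c, ?_⟩
  set f := σ v - c • (1 : Module.End k W) with hf
  have hfx : Commute f (σ x) := hvx.sub_left ((Commute.one_left _).smul_left c)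
  have hfm : f ^ m = 0 := by
    have hc1 : IsCompl (ker (f ^ m)) (range (f ^ m)) := by
      refine Submodule.isCompl_iff_disjoint _ _ (by rw [add_comm, LinearMap.finrank_range_add_finrank_ker]) |>.mpr ?_
      rw [Submodule.disjoint_def]
      intro a ha hb
      obtain ⟨b, rfl⟩ := hb
      have h1 : b ∈ ker (f ^ (m + m)) := by
        rw [LinearMap.mem_ker, pow_add, Module.End.mul_apply]; exact LinearMap.mem_ker.mp ha
      rw [Module.End.ker_pow_eq_ker_pow_finrank_of_le (show finrank k W ≤ m + m by omega)] at h1
      exact LinearMap.mem_ker.mp h1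
    let P := (ker (f ^ m)).projection (range (f ^ m)) hc1
    have hP : Commute P (σ x) := by
      refine LinearMap.ext fun w => ?_
      have h1 : ∀ a ∈ ker (f ^ m), σ x a ∈ ker (f ^ m) := fun a ha => by
        rw [LinearMap.mem_ker, ← Module.End.mul_apply, (hfx.pow_left m).eq, Module.End.mul_apply,
          LinearMap.mem_ker.mp ha, map_zero]
      have h2 : ∀ a ∈ range (f ^ m), σ x a ∈ range (f ^ m) := by
        rintro _ ⟨b, rfl⟩
        exact ⟨σ x b, by rw [← Module.End.mul_apply, (hfx.pow_left m).eq, Module.End.mul_apply]⟩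
      obtain ⟨a, ha, b, hb, rfl⟩ := Submodule.mem_sup.mp (hc1.sup_eq_top ▸ Submodule.mem_top (x := w))
      simp only [P, Module.End.mul_apply, map_add]
      rw [Submodule.projection_apply_of_mem_left hc1 ha, Submodule.projection_apply_of_mem_left hc1 (h1 a ha),
        Submodule.projection_apply_of_mem_right hc1 hb, Submodule.projection_apply_of_mem_right hc1 (h2 b hb),
        map_zero]
    have hPid : IsIdempotentElem P := LinearMap.ext fun w => by
      simp only [P, Module.End.mul_apply]
      exact Submodule.projection_apply_of_mem_left hc1 (Submodule.projection_apply_mem hc1 w)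
    rcases hidem P hP hPid with h | h
    · exfalso
      apply hc
      rw [eq_bot_iff]
      intro w hw
      rw [Module.End.mem_eigenspace_iff] at hw
      have h1 : w ∈ ker (f ^ m) := by
        obtain ⟨j, hj⟩ := Nat.exists_eq_add_of_le hm1
        rw [hj, add_comm, pow_succ, LinearMap.mem_ker, Module.End.mul_apply,
          show f w = 0 by simp [hf, hw], map_zero]
      have h2 := Submodule.projection_apply_of_mem_left hc1 h1
      rw [show (ker (f ^ m)).projection (range (f ^ m)) hc1 = 0 from h] at h2
      exact Submodule.mem_bot k |>.mpr h2.symm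
    · refine LinearMap.ext fun w => ?_
      rw [LinearMap.zero_apply, ← LinearMap.mem_ker]
      have h2 := Submodule.projection_apply_mem hc1 w
      rwa [show (ker (f ^ m)).projection (range (f ^ m)) hc1 = 1 from h, Module.End.one_apply] at h2
  have hv1 : σ v ^ orderOf v = 1 := by rw [← map_pow, pow_orderOf_eq_one, map_one]
  have hc0 : c ≠ 0 := by
    intro h0
    apply hc
    rw [eq_bot_iff]
    intro w hw
    rw [Module.End.mem_eigenspace_iff, h0, zero_smul] at hw
    have : (σ v⁻¹ * σ v) w = 0 := by rw [Module.End.mul_apply, hw, map_zero]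
    rw [inv_mul_self] at this
    exact Submodule.mem_bot k |>.mpr this
  have hcd : c ^ orderOf v = 1 := by
    obtain ⟨w, hw, hw0⟩ := Submodule.exists_mem_ne_zero_of_ne_bot hc
    rw [Module.End.mem_eigenspace_iff] at hw
    have h : ∀ i : ℕ, (σ v ^ i) w = c ^ i • w := by
      intro i
      induction i with
      | zero => simp
      | succ i ih => rw [pow_succ', Module.End.mul_apply, ih, map_smul, hw, smul_smul, pow_succ]
    have h1 := h (orderOf v)
    rw [hv1, Module.End.one_apply] at h1
    exact smul_left_injective k hw0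
      (show c ^ orderOf v • w = (1 : k) • w by rw [one_smul]; exact h1.symm)
  have h1 : c⁻¹ • σ v = 1 := by
    refine eq_one_of_nilpotent_sub_one (p := p) ⟨m, ?_⟩ hvp ?_
    · rw [show c⁻¹ • σ v - 1 = c⁻¹ • f by rw [hf, smul_sub, smul_smul, inv_mul_cancel₀ hc0, one_smul],
        smul_pow, hfm, smul_zero]
    · rw [smul_pow, hv1, inv_pow, hcd, inv_one, one_smul]
  rw [← h1, smul_smul, mul_inv_cancel₀ hc0, one_smul]

end Cfsg.Agent.Lib.HalfPSL
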