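/-
Normal subgroups of order prime to `p` commute with the element of order `p` in small modules.
-/
import Mathlib
import Cfsg.Agent.Lib.HalfPSL.Struct

set_option autoImplicit false
set_option linter.unusedSectionVars false
set_option linter.style.haveILetI false

namespace Cfsg.Agent.Lib.HalfPSL

open LinearMap Module Finset Subgroup Cfsg.Agent.Lib

universe u v w

variable {k : Type w} [Field k] {p : ℕ} [hp : Fact p.Prime] [CharP k p]
  {G : Type u} [Group G] [Finite G]

/-- Restriction to an invariant subspace. -/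
noncomputable def subRep {W : Type v} [AddCommGroup W] [Module k W] (σ : G →* Module.End k W)
    (U : Submodule k W) (hU : ∀ g, ∀ u ∈ U, σ g u ∈ U) : G →* Module.End k U where
  toFun g := (σ g).restrict (hU g)
  map_one' := LinearMap.ext fun v => Subtype.ext (by simp [LinearMap.restrict_apply])
  map_mul' a b := LinearMap.ext fun v => Subtype.ext (by simp [LinearMap.restrict_apply])

/-- The action on the quotient by an invariant subspace. -/
noncomputable def quotRep {W : Type v} [AddCommGroup W] [Module k W] (σ : G →* Module.End k W)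
    (U : Submodule k W) (hU : ∀ g, ∀ u ∈ U, σ g u ∈ U) : G →* Module.End k (W ⧸ U) where
  toFun g := U.mapQ U (σ g) (hU g)
  map_one' := Submodule.linearMap_qext _ (LinearMap.ext fun v => by simp)
  map_mul' a b := Submodule.linearMap_qext _ (LinearMap.ext fun v => by simp)

@[simp] theorem subRep_coe {W : Type v} [AddCommGroup W] [Module k W] (σ : G →* Module.End k W)
    (U : Submodule k W) (hU : ∀ g, ∀ u ∈ U, σ g u ∈ U) (g : G) (u : U) :
    (subRep σ U hU g u : W) = σ g u := rfl

@[simp] theorem quotRep_mk {W : Type v} [AddCommGroup W] [Module k W] (σ : G →* Module.End k W)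
    (U : Submodule k W) (hU : ∀ g, ∀ u ∈ U, σ g u ∈ U) (g : G) (u : W) :
    quotRep σ U hU g (Submodule.Quotient.mk u) = Submodule.Quotient.mk (σ g u) := rfl

theorem nilpotent_sub_one_of_sub_quot {W : Type v} [AddCommGroup W] [Module k W]
    (σ : G →* Module.End k W) (U : Submodule k W) (hU : ∀ g, ∀ u ∈ U, σ g u ∈ U) (g : G)
    (h1 : IsNilpotent (subRep σ U hU g - 1)) (h2 : IsNilpotent (quotRep σ U hU g - 1)) :
    IsNilpotent (σ g - 1) := by
  obtain ⟨a, ha⟩ := h1
  obtain ⟨b, hb⟩ := h2
  refine ⟨a + b, LinearMap.ext fun w => ?_⟩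
  have hq : ∀ (i : ℕ) (w : W), ((quotRep σ U hU g - 1) ^ i) (Submodule.Quotient.mk w) =
      Submodule.Quotient.mk (((σ g - 1) ^ i) w) := by
    intro i
    induction i with
    | zero => intro w; rfl
    | succ i ih => intro w; rw [pow_succ, pow_succ, Module.End.mul_apply, Module.End.mul_apply, ← ih]; rfl
  have hs : ∀ (i : ℕ) (u : U), (((subRep σ U hU g - 1) ^ i) u : W) = ((σ g - 1) ^ i) (u : W) := by
    intro i
    induction i with
    | zero => intro u; rfl
    | succ i ih => intro u; rw [pow_succ, pow_succ, Module.End.mul_apply, Module.End.mul_apply, ih]; rfl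
  have hmem : ((σ g - 1) ^ b) w ∈ U := by
    rw [← Submodule.Quotient.mk_eq_zero, ← hq, hb, LinearMap.zero_apply]
  rw [pow_add, Module.End.mul_apply, ← hs a ⟨_, hmem⟩, ha, LinearMap.zero_apply]
  rfl

variable [IsAlgClosed k] {x : G}

/-- An irreducible step: the dimension is one. -/
theorem finrank_le_one_of_irreducible {W : Type v} [AddCommGroup W] [Module k W]
    [FiniteDimensional k W] [Nontrivial W] (σ : G →* Module.End k W) (K : Subgroup G)
    (hK : ¬ p ∣ Nat.card K) (hx : orderOf x = p) (hnorm : ∀ a ∈ K, x * a * x⁻¹ ∈ K)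
    (hscal : ∀ v ∈ K, Commute v x → ∃ c : k, σ v = c • 1)
    (hm : 2 * finrank k W < p) (hs : Single (σ x - 1))
    (hirr : ∀ U : Submodule k W, (∀ a ∈ K, ∀ u ∈ U, σ a u ∈ U) → (∀ u ∈ U, σ x u ∈ U) →
      U = ⊥ ∨ U = ⊤) :
    finrank k W ≤ 1 := by
  classical
  set m := finrank k W with hmdef
  have hm1 : 0 < m := finrank_pos
  have hmk : (m : k) ≠ 0 := fun h => by
    have := natCast_eq_zero_of_lt (p := p) h (by omega); omega
  haveI : Fintype K := Fintype.ofFinite K
  have hinvx : ∀ a ∈ K, x⁻¹ * a * x ∈ K := by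
    intro a ha
    have key : ∀ i : ℕ, x ^ i * a * (x ^ i)⁻¹ ∈ K := by
      intro i
      induction i with
      | zero => simpa using ha
      | succ i ih => convert hnorm _ ih using 1; rw [pow_succ']; group
    have h := key (p - 1)
    rwa [show x ^ (p - 1) = x⁻¹ from eq_inv_of_mul_eq_one_left (by
      rw [← pow_succ, Nat.sub_add_cancel hp.out.one_le, ← hx, pow_orderOf_eq_one]), inv_inv] at h
  -- the commutant of `K` consists of scalars
  set T' := adRep σ x - 1 with hT'
  have hsc : ∀ d : Module.End k W, (∀ a ∈ K, Commute d (σ a)) → T' d = 0 → ∃ c : k, d = c • 1 := by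
    intro d hd hdx
    have hdx' : Commute d (σ x) := (adRep_eq_iff σ).mp (sub_eq_zero.mp hdx)
    obtain ⟨c, hc⟩ := Module.End.exists_eigenvalue d
    refine ⟨c, ?_⟩
    have hinv : ∀ (g : G), Commute d (σ g) → ∀ u ∈ d.eigenspace c, σ g u ∈ d.eigenspace c := by
      intro g hg u hu
      rw [Module.End.mem_eigenspace_iff] at hu ⊢
      rw [← Module.End.mul_apply, hg.eq, Module.End.mul_apply, hu, map_smul]
    rcases hirr (d.eigenspace c) (fun a ha => hinv a (hd a ha)) (hinv x hdx') with h | h
    · exact absurd h hc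
    · refine LinearMap.ext fun w => ?_
      rw [LinearMap.smul_apply, Module.End.one_apply]
      exact Module.End.mem_eigenspace_iff.mp (h ▸ Submodule.mem_top)
  have hcomm : ∀ d : Module.End k W, (∀ a ∈ K, Commute d (σ a)) → ∃ c : k, d = c • 1 := by
    intro d hd
    have hpres : ∀ d : Module.End k W, (∀ a ∈ K, Commute d (σ a)) →
        ∀ a ∈ K, Commute (T' d) (σ a) := by
      intro d hd a ha
      refine Commute.sub_left ?_ (hd a ha)
      show σ x * (d * σ x⁻¹) * σ a = σ a * (σ x * (d * σ x⁻¹))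
      have h1 := (hd _ (hinvx a ha)).eq
      calc σ x * (d * σ x⁻¹) * σ a = σ x * (d * σ (x⁻¹ * a * x)) * σ x⁻¹ := by
            simp only [mul_assoc, ← map_mul]; group
        _ = σ x * (σ (x⁻¹ * a * x) * d) * σ x⁻¹ := by rw [h1]
        _ = σ a * (σ x * (d * σ x⁻¹)) := by simp only [← mul_assoc, ← map_mul]; group
    by_contra hne
    push Not at hne
    have hne1 : T' d ≠ 0 := fun h => by obtain ⟨c, hc⟩ := hsc d hd h; exact hne c hc
    obtain ⟨i, hi⟩ : ∃ i, (T' ^ i) d = 0 := by
      refine ⟨p, ?_⟩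
      have h := T_pow_char (adRep σ) hx
      rw [← hT'] at h
      rw [h, LinearMap.zero_apply]
    obtain ⟨j, hj, hj'⟩ : ∃ j, (T' ^ j) d ≠ 0 ∧ (T' ^ (j + 1)) d = 0 := by
      induction i with
      | zero => exact absurd (by rw [show d = 0 by simpa using hi, map_zero]) hne1
      | succ i ih =>
        by_cases h : (T' ^ i) d = 0
        · exact ih h
        · exact ⟨i, h, hi⟩
    have hpd : ∀ a ∈ K, Commute ((T' ^ j) d) (σ a) := by
      clear hj hj'
      induction j with
      | zero => simpa using hd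
      | succ j ih => rw [pow_succ', Module.End.mul_apply]; exact hpres _ ih
    obtain ⟨c, hc⟩ := hsc _ hpd (by rwa [← Module.End.mul_apply, ← pow_succ'])
    have hj1 : 1 ≤ j := by
      rcases Nat.eq_zero_or_pos j with h | h
      · subst h
        exact absurd (by rwa [zero_add, pow_one] at hj') hne1
      · exact h
    obtain ⟨l, hl⟩ := Nat.exists_eq_add_of_le hj1
    have h1 := trace_adT (x := x) σ ((T' ^ l) d)
    rw [← hT', ← Module.End.mul_apply, ← pow_succ', show l + 1 = j by omega, hc, map_smul,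
      LinearMap.trace_one, smul_eq_mul, mul_eq_zero] at h1
    rcases h1 with h1 | h1
    · exact hj (by rw [hc, h1, zero_smul])
    · exact hmk h1
  -- the trace of the averaging projection
  have hKk : (Fintype.card K : k) ≠ 0 := fun h => hK (by
    rw [Nat.card_eq_fintype_card]; exact (CharP.cast_eq_zero_iff k p _).mp h)
  let π : Module.End k (Module.End k W) := (Fintype.card K : k)⁻¹ • ∑ a : K, adRep σ (a : G)
  have hπ : IsProj (k ∙ (1 : Module.End k W)) π := by
    refine ⟨fun f => ?_, fun f hf => ?_⟩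
    · obtain ⟨c, hc⟩ := hcomm (π f) fun a ha => by
        refine (adRep_eq_iff σ).mp ?_
        show adRep σ a (π f) = π f
        simp only [π, LinearMap.smul_apply, LinearMap.sum_apply, map_smul, map_sum]
        congr 1
        refine Fintype.sum_equiv (Equiv.mulLeft (⟨a, ha⟩ : K)) _ _ fun b => ?_
        rw [← Module.End.mul_apply, ← map_mul]
        rfl
      rw [hc]
      exact Submodule.smul_mem _ c (Submodule.mem_span_singleton_self _)
    · obtain ⟨c, rfl⟩ := Submodule.mem_span_singleton.mp hf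
      simp only [π, LinearMap.smul_apply, LinearMap.sum_apply]
      rw [sum_congr rfl (g := fun _ => c • (1 : Module.End k W)) fun a _ =>
        (adRep_eq_iff σ).mpr ((Commute.one_left _).smul_left c), sum_const, card_univ,
        ← Nat.cast_smul_eq_nsmul k, inv_smul_smul₀ hKk]
  have htr := hπ.trace
  rw [finrank_span_singleton (one_ne_zero : (1 : Module.End k W) ≠ 0), Nat.cast_one] at htr
  simp only [π, map_smul, map_sum, smul_eq_mul] at htr
  rw [inv_mul_eq_one₀ hKk] at htr
  simp only [trace_adRep] at htr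
  -- only the fixed points of `x` count
  let π' : Equiv.Perm K :=
    { toFun := fun a => ⟨x * a * x⁻¹, hnorm _ a.2⟩
      invFun := fun a => ⟨x⁻¹ * a * x, hinvx _ a.2⟩
      left_inv := fun a => Subtype.ext (by group)
      right_inv := fun a => Subtype.ext (by group) }
  have hπp : π' ^ p = 1 := by
    have key : ∀ (i : ℕ) (a : K), (((π' ^ i) a : K) : G) = x ^ i * a * (x ^ i)⁻¹ := by
      intro i a
      induction i with
      | zero => simp
      | succ i ih =>
        rw [pow_succ', Equiv.Perm.mul_apply]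
        show x * _ * x⁻¹ = _
        rw [ih, pow_succ']; group
    refine Equiv.ext fun a => Subtype.ext ?_
    rw [key, ← hx, pow_orderOf_eq_one]; simp
  have hfix := Glauberman.sum_eq_sum_fixed p π' hπp
    (fun a : K => LinearMap.trace k W (σ (a : G)⁻¹) * LinearMap.trace k W (σ (a : G))) fun a => by
      show LinearMap.trace k W (σ (x * a * x⁻¹)⁻¹) * LinearMap.trace k W (σ (x * a * x⁻¹)) = _
      have h : ∀ g : G, LinearMap.trace k W (σ (x * g * x⁻¹)) = LinearMap.trace k W (σ g) := by
        intro g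
        rw [map_mul, LinearMap.trace_mul_comm, ← map_mul]
        group
      rw [h, show (x * (a : G) * x⁻¹)⁻¹ = x * (a : G)⁻¹ * x⁻¹ by group, h]
  have hcard := Glauberman.sum_eq_sum_fixed p π' hπp (fun _ : K => (1 : k)) fun _ => rfl
  have hval : ∀ a ∈ univ.filter (fun a : K => π' a = a),
      LinearMap.trace k W (σ (a : G)⁻¹) * LinearMap.trace k W (σ (a : G)) = (m : k) * m := by
    intro a ha
    simp only [mem_filter, mem_univ, true_and] at ha
    have hax : Commute (a : G) x := by
      have h := congrArg Subtype.val ha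
      show (a : G) * x = x * a
      conv_lhs => rw [← h]
      show x * (a : G) * x⁻¹ * x = _
      rw [inv_mul_cancel_right]
    obtain ⟨c, hc⟩ := hscal _ a.2 hax
    obtain ⟨c', hc'⟩ := hscal _ (inv_mem a.2) hax.inv_left
    have h1 : c' * c = 1 := by
      have h2 : σ (a : G)⁻¹ * σ (a : G) = 1 := by rw [← map_mul, inv_mul_cancel, map_one]
      rw [hc, hc', smul_mul_smul_comm, one_mul] at h2
      have h3 := congrArg (LinearMap.trace k W) h2
      rw [map_smul, LinearMap.trace_one, smul_eq_mul] at h3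
      exact mul_right_cancel₀ hmk (h3.trans (one_mul _).symm)
    rw [hc, hc', map_smul, map_smul, LinearMap.trace_one, smul_eq_mul, smul_eq_mul]
    linear_combination ((m : k) * m) * h1
  rw [hfix, sum_congr rfl hval, sum_const, nsmul_eq_mul] at htr
  rw [sum_const, sum_const, nsmul_one, nsmul_one, card_univ] at hcard
  rw [← hcard] at htr
  have h1 : (m : k) * m = 1 := mul_left_cancel₀ hKk (by linear_combination -htr)
  rcases mul_self_eq_one_iff.mp h1 with h2 | h2
  · rw [← Nat.cast_one] at h2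
    exact (natCast_inj_of_lt (p := p) (by omega) hp.out.one_lt h2).le
  · have h3 : ((m + 1 : ℕ) : k) = 0 := by push_cast; linear_combination h2
    have := natCast_eq_zero_of_lt (p := p) h3 (by omega)
    omega

/-- With one block and scalar centralizer, `[a, x]` is unipotent. -/
theorem nilpotent_comm_aux (K : Subgroup G) (hK : ¬ p ∣ Nat.card K) (hx : orderOf x = p)
    (hnorm : ∀ a ∈ K, x * a * x⁻¹ ∈ K)
    (hgenK : Subgroup.closure (insert x (K : Set G)) = ⊤) (n : ℕ) :
    ∀ (W : Type v) [AddCommGroup W] [Module k W] [FiniteDimensional k W]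
      (σ : G →* Module.End k W), finrank k W = n → 2 * n < p → Single (σ x - 1) →
      (∀ v ∈ K, Commute v x → ∃ c : k, σ v = c • 1) →
      ∀ a ∈ K, IsNilpotent (σ (a * x * a⁻¹ * x⁻¹) - 1) := by
  induction n using Nat.strong_induction_on with
  | _ n ih =>
  intro W _ _ _ σ hn hnp hs hscal a ha
  rcases Nat.eq_zero_or_pos n with h0 | hpos
  · haveI : Subsingleton W := finrank_zero_iff.mp (hn.trans h0)
    exact ⟨1, Subsingleton.elim _ _⟩
  haveI : Nontrivial W := finrank_pos_iff.mp (hn ▸ hpos)
  by_cases hsub : ∃ U : Submodule k W, (∀ a ∈ K, ∀ u ∈ U, σ a u ∈ U) ∧ (∀ u ∈ U, σ x u ∈ U) ∧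
      U ≠ ⊥ ∧ U ≠ ⊤
  · obtain ⟨U, hUK, hUx, hb, ht⟩ := hsub
    let H : Submonoid G :=
      { carrier := {g | ∀ u ∈ U, σ g u ∈ U}
        one_mem' := fun u hu => by simpa using hu
        mul_mem' := fun {g g'} hg hg' u hu => by
          rw [map_mul, Module.End.mul_apply]; exact hg _ (hg' u hu) }
    have hall : ∀ g, ∀ u ∈ U, σ g u ∈ U := by
      intro g
      have h1 : Submonoid.closure (insert x (K : Set G)) ≤ H := by
        rw [Submonoid.closure_le]
        rintro b (rfl | hb')
        · exact hUx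
        · exact hUK b hb'
      have h2 : g ∈ Subgroup.closure (insert x (K : Set G)) := hgenK ▸ Subgroup.mem_top g
      rw [← Subgroup.mem_toSubmonoid, Subgroup.closure_toSubmonoid_of_finite] at h2
      exact h1 h2
    have hlt1 : finrank k U < n := hn ▸ Submodule.finrank_lt ht
    have hlt2 : finrank k (W ⧸ U) < n := by
      have h1 := U.finrank_quotient_add_finrank
      have h2 : 0 < finrank k U := Nat.pos_of_ne_zero fun h => hb (Submodule.finrank_eq_zero.mp h)
      omega
    refine nilpotent_sub_one_of_sub_quot σ U hall _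
      (ih _ hlt1 U _ rfl (by omega) ?_ ?_ a ha) (ih _ hlt2 (W ⧸ U) _ rfl (by omega) ?_ ?_ a ha)
    · have hT : ∀ u ∈ U, (σ x - 1) u ∈ U := fun u hu => sub_mem (hall x u hu) hu
      exact (hs.restrict hT : _)
    · intro v hv hvx
      obtain ⟨c, hc⟩ := hscal v hv hvx
      exact ⟨c, LinearMap.ext fun u => Subtype.ext (by simp [hc])⟩
    · have hT : U ≤ U.comap (σ x - 1) := fun u hu => sub_mem (hall x u hu) hu
      have h : quotRep σ U hall x - 1 = U.mapQ U (σ x - 1) hT :=
        Submodule.linearMap_qext _ (LinearMap.ext fun v => by simp)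
      rw [h]
      exact hs.mapQ hT
    · intro v hv hvx
      obtain ⟨c, hc⟩ := hscal v hv hvx
      exact ⟨c, Submodule.linearMap_qext _ (LinearMap.ext fun u => by simp [hc])⟩
  · push Not at hsub
    have h1 := finrank_le_one_of_irreducible σ K hK hx hnorm hscal (hn ▸ hnp) hs fun U hUK hUx => by
      by_contra h
      rw [not_or] at h
      exact h.2 (hsub U hUK hUx h.1)
    -- everything is scalar
    have hd : finrank k W = 1 := by omega
    obtain ⟨e, he0, hspan⟩ := finrank_eq_one_iff'.mp hd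
    have hsc : ∀ f : Module.End k W, ∃ c : k, f = c • 1 := fun f => by
      obtain ⟨c, hc⟩ := hspan (f e)
      refine ⟨c, LinearMap.ext fun w => ?_⟩
      obtain ⟨d, rfl⟩ := hspan w
      rw [map_smul, ← hc, LinearMap.smul_apply, Module.End.one_apply, smul_comm]
    have hcomm : σ x * σ a⁻¹ = σ a⁻¹ * σ x := by
      obtain ⟨c, hc⟩ := hsc (σ x)
      rw [hc, smul_mul_assoc, mul_smul_comm, one_mul, mul_one]
    refine ⟨1, ?_⟩
    rw [pow_one, map_mul, map_mul, map_mul, mul_assoc (σ a), hcomm, ← mul_assoc, mul_inv_self,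
      one_mul, mul_inv_self, sub_self]

theorem nilpotent_comm_x {W : Type v} [AddCommGroup W] [Module k W] [FiniteDimensional k W]
    (σ : G →* Module.End k W) (K : Subgroup G) (hK : ¬ p ∣ Nat.card K) (hx : orderOf x = p)
    (hnorm : ∀ a ∈ K, x * a * x⁻¹ ∈ K) (hnp : 2 * finrank k W < p) (hs : Single (σ x - 1))
    (hscal : ∀ v ∈ K, Commute v x → ∃ c : k, σ v = c • 1) {a : G} (ha : a ∈ K) :
    IsNilpotent (σ (a * x * a⁻¹ * x⁻¹) - 1) := by
  set M := Subgroup.closure (insert x (K : Set G)) with hM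
  have hxM : x ∈ M := Subgroup.subset_closure (Set.mem_insert _ _)
  have hKM : K ≤ M := fun b hb => Subgroup.subset_closure (Set.mem_insert_of_mem _ hb)
  haveI : Finite M := Subtype.finite
  exact nilpotent_comm_aux (G := M) (k := k) (p := p) (x := ⟨x, hxM⟩) (K.subgroupOf M)
    (by rwa [Nat.card_congr (Subgroup.subgroupOfEquivOfLe hKM).toEquiv])
    (by rw [← Subgroup.orderOf_coe]; exact hx)
    (fun b hb => mem_subgroupOf.mpr (hnorm _ (mem_subgroupOf.mp hb)))
    (by
      apply Subgroup.map_injective M.subtype_injective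
      rw [MonoidHom.map_closure, Subgroup.coe_subtype, Set.image_insert_eq,
        ← MonoidHom.range_eq_map, Subgroup.range_subtype]
      conv_rhs => rw [hM]
      congr 2
      exact Set.ext fun b => ⟨fun ⟨c, hc, hcb⟩ => hcb ▸ mem_subgroupOf.mp hc,
        fun hb => ⟨⟨b, hKM hb⟩, mem_subgroupOf.mpr hb, rfl⟩⟩)
    _ W (σ.comp M.subtype) rfl hnp hs
    (fun v hv hvx => hscal v (mem_subgroupOf.mp hv) (congrArg Subtype.val hvx.eq))
    ⟨a, hKM ha⟩ (mem_subgroupOf.mpr ha)

/-- In a small module of a group generated by conjugates of `x`, a normal subgroup of order prime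
to `p` commutes with the group up to unipotents. -/
theorem nilpotent_comm_normal (K : Subgroup G) [hKn : K.Normal] (hK : ¬ p ∣ Nat.card K)
    (hx : orderOf x = p) (hsq : ¬ p ^ 2 ∣ Nat.card G)
    (hgen : Subgroup.closure {y : G | ∃ g, y = g * x * g⁻¹} = ⊤) (n : ℕ) :
    ∀ (W : Type v) [AddCommGroup W] [Module k W] [FiniteDimensional k W]
      (σ : G →* Module.End k W), finrank k W = n → 2 * n < p →
      ∀ a ∈ K, ∀ g : G, IsNilpotent (σ (a * g * a⁻¹ * g⁻¹) - 1) := by
  induction n using Nat.strong_induction_on with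
  | _ n ih =>
  intro W _ _ _ σ hn hnp a ha g
  rcases Nat.eq_zero_or_pos n with h0 | hpos
  · haveI : Subsingleton W := finrank_zero_iff.mp (hn.trans h0)
    exact ⟨1, Subsingleton.elim _ _⟩
  haveI : Nontrivial W := finrank_pos_iff.mp (hn ▸ hpos)
  by_cases hsub : ∃ U : Submodule k W, (∀ g, ∀ u ∈ U, σ g u ∈ U) ∧ U ≠ ⊥ ∧ U ≠ ⊤
  · obtain ⟨U, hU, hb, ht⟩ := hsub
    have hlt1 : finrank k U < n := hn ▸ Submodule.finrank_lt ht
    have hlt2 : finrank k (W ⧸ U) < n := by
      have h1 := U.finrank_quotient_add_finrank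
      have h2 : 0 < finrank k U := Nat.pos_of_ne_zero fun h => hb (Submodule.finrank_eq_zero.mp h)
      omega
    exact nilpotent_sub_one_of_sub_quot σ U hU _
      (ih _ hlt1 U _ rfl (by omega) a ha g) (ih _ hlt2 (W ⧸ U) _ rfl (by omega) a ha g)
  push Not at hsub
  have hirr : ∀ U : Submodule k W, (∀ g, ∀ u ∈ U, σ g u ∈ U) → U = ⊥ ∨ U = ⊤ := fun U hU => by
    by_contra h
    rw [not_or] at h
    exact h.2 (hsub U hU h.1)
  obtain ⟨hs, hsc⟩ := single_and_scalar σ hx hsq hgen hirr (hn ▸ hnp)
  have hKd : ∀ v ∈ K, ¬ p ∣ orderOf v := fun v hv hd =>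
    hK (hd.trans (Subgroup.orderOf_dvd_natCard K hv))
  -- `σ b` commutes with `σ x`
  have hcx : ∀ b ∈ K, σ (b * x * b⁻¹ * x⁻¹) = 1 := by
    intro b hb
    have hmem : b * x * b⁻¹ * x⁻¹ ∈ K := by
      rw [mul_assoc, mul_assoc, ← mul_assoc x]; exact mul_mem hb (hKn.conj_mem _ (inv_mem hb) x)
    refine eq_one_of_nilpotent_sub_one (p := p)
      (nilpotent_comm_x σ K hK hx (fun c hc => hKn.conj_mem c hc x) (hn ▸ hnp) hs
        (fun v hv hvx => hsc v hvx (hKd v hv)) hb) (hKd _ hmem) ?_
    rw [← map_pow, pow_orderOf_eq_one, map_one]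
  have hall : ∀ g : G, ∀ b ∈ K, σ b * σ g = σ g * σ b := by
    intro g
    have hg : g ∈ Subgroup.closure {y : G | ∃ g, y = g * x * g⁻¹} := hgen ▸ Subgroup.mem_top g
    induction hg using Subgroup.closure_induction with
    | mem y hy =>
      obtain ⟨c, rfl⟩ := hy
      intro b hb
      have h := hcx (c⁻¹ * b * c) (by simpa using hKn.conj_mem b hb c⁻¹)
      have h2 : σ (b * (c * x * c⁻¹) * b⁻¹ * (c * x * c⁻¹)⁻¹) = 1 := by
        rw [show b * (c * x * c⁻¹) * b⁻¹ * (c * x * c⁻¹)⁻¹ =
          c * (c⁻¹ * b * c * x * (c⁻¹ * b * c)⁻¹ * x⁻¹) * c⁻¹ by group, map_mul, map_mul, h,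
          mul_one, mul_inv_self]
      have h3 := congrArg (· * σ (c * x * c⁻¹ * b)) h2
      simp only [one_mul, ← map_mul] at h3 ⊢
      rw [← h3]; group
    | one => intro b _; simp
    | mul u v _ _ hu hv =>
      intro b hb
      rw [map_mul, ← mul_assoc, hu b hb, mul_assoc, hv b hb, mul_assoc]
    | inv u _ hu =>
      intro b hb
      calc σ b * σ u⁻¹ = σ u⁻¹ * (σ u * σ b) * σ u⁻¹ := by
            rw [← mul_assoc (σ u⁻¹), inv_mul_self, one_mul]
        _ = σ u⁻¹ * σ b * (σ u * σ u⁻¹) := by rw [← hu b hb]; simp only [mul_assoc]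
        _ = σ u⁻¹ * σ b := by rw [mul_inv_self, mul_one]
  refine ⟨1, ?_⟩
  rw [pow_one, map_mul, map_mul, map_mul, hall g a ha, mul_assoc (σ g), mul_inv_self, mul_one,
    mul_inv_self, sub_self]

end Cfsg.Agent.Lib.HalfPSL
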