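/-
The endomorphisms of a module with one block contain an invariant block of size three.
-/
import Mathlib
import Cfsg.Agent.Lib.HalfPSL.Normal

set_option autoImplicit false
set_option linter.unusedSectionVars false
set_option linter.style.haveILetI false

namespace Cfsg.Agent.Lib.HalfPSL

open LinearMap Module Finset Subgroup Cfsg.Agent.Lib

variable {k : Type*} [Field k] {p : ℕ} [hp : Fact p.Prime] [CharP k p]

theorem six_mul_sum {m : ℕ} :
    6 * ∑ i ∈ Finset.range m, i * (m - i) + m = m ^ 3 := by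
  have h : ∀ m : ℕ, 6 * ∑ i ∈ Finset.range m, ((i : ℤ) * ((m : ℤ) - i)) + m = (m : ℤ) ^ 3 := by
    intro m
    have h1 : ∀ m : ℕ, 2 * ∑ i ∈ Finset.range m, (i : ℤ) = (m : ℤ) * (m - 1) := by
      intro m
      induction m with
      | zero => simp
      | succ m ih => rw [sum_range_succ, mul_add, ih]; push_cast; ring
    induction m with
    | zero => simp
    | succ m ih =>
      rw [sum_range_succ, sum_congr rfl (g := fun i : ℕ => (i : ℤ) * ((m : ℤ) - i) + i) fun i _ => by
        push_cast; ring, sum_add_distrib]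
      push_cast
      linear_combination ih + 3 * h1 m
  have h2 := h m
  rw [sum_congr rfl (g := fun i : ℕ => ((i * (m - i) : ℕ) : ℤ)) fun i hi => by
    rw [Nat.cast_mul, Nat.cast_sub (Finset.mem_range.mp hi).le]] at h2
  exact_mod_cast h2

variable {W : Type*} [AddCommGroup W] [Module k W] [FiniteDimensional k W]

/-- The bracket with `T`. -/
noncomputable def brk (T : Module.End k W) : Module.End k (Module.End k W) :=
  LinearMap.mulLeft k T - LinearMap.mulRight k T

@[simp] theorem brk_apply (T f : Module.End k W) : brk T f = T * f - f * T := rfl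

theorem trace_brk (T f g : Module.End k W) :
    LinearMap.trace k W (brk T f * g) = -LinearMap.trace k W (f * brk T g) := by
  simp only [brk_apply, sub_mul, mul_sub, map_sub, neg_sub]
  rw [show T * f * g = T * (f * g) from mul_assoc _ _ _, LinearMap.trace_mul_comm k T (f * g),
    mul_assoc f T g, mul_assoc f g T]

theorem trace_brk_pow (T f g : Module.End k W) (n : ℕ) :
    LinearMap.trace k W ((brk T ^ n) f * g) =
      (-1) ^ n * LinearMap.trace k W (f * (brk T ^ n) g) := by
  induction n generalizing f g with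
  | zero => simp
  | succ n ih =>
    conv_lhs => rw [pow_succ', Module.End.mul_apply]
    rw [trace_brk, ih, pow_succ (brk T) n, Module.End.mul_apply, pow_succ (-1 : k)]
    ring

/-- A lowering operator for a chain basis. -/
theorem exists_lower {T : Module.End k W} (hs : Single T) (hT : T ^ finrank k W = 0)
    (hm2 : 2 ≤ finrank k W) (hm : 2 * finrank k W < p) :
    ∃ F : Module.End k W, (brk T ^ 2) F = (-2 : k) • T ∧
      LinearMap.trace k W (T * F) ≠ 0 := by
  classical
  set m := finrank k W with hmdef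
  obtain ⟨m', hm'⟩ : ∃ m', m = m' + 1 := ⟨m - 1, by omega⟩
  obtain ⟨v, hv⟩ : ∃ v, (T ^ m') v ≠ 0 := by
    by_contra h
    push Not at h
    exact hs.pow_ne_zero (n := m') (by omega) (LinearMap.ext h)
  obtain ⟨φ, hφ⟩ := Module.Projective.exists_dual_ne_zero k hv
  have hT' : ∀ w, (T ^ (m' + 1)) w = 0 := fun w => by rw [← hm', hT, LinearMap.zero_apply]
  obtain ⟨r, -, -, hrank⟩ := exists_retraction (hT' v) φ hφ fun w => by rw [hT', map_zero]
  have htop : chain T v (m' + 1) = ⊤ :=
    Submodule.eq_top_of_finrank_eq (by rw [hrank, ← hm'])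
  let b : Basis (Fin (m' + 1)) k W :=
    basisOfTopLeSpanOfCardEqFinrank (fun i : Fin (m' + 1) => (T ^ (i : ℕ)) v) (le_of_eq htop.symm)
      (by rw [Fintype.card_fin, ← hm'])
  have hb : ∀ i, b i = (T ^ (i : ℕ)) v := fun i => by
    simp [b, coe_basisOfTopLeSpanOfCardEqFinrank]
  let q : ℕ → W := fun i => (T ^ i) v
  have hTq : ∀ i, T (q i) = q (i + 1) := fun i => by
    simp only [q]; rw [pow_succ', Module.End.mul_apply]
  let F : Module.End k W := b.constr k fun i : Fin (m' + 1) =>
    (((i : ℕ) : k) * ((m : k) - (i : ℕ))) • q ((i : ℕ) - 1)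
  have hFq : ∀ i, i ≤ m → F (q i) = ((i : k) * ((m : k) - i)) • q (i - 1) := by
    intro i hi
    rcases lt_or_eq_of_le hi with h | h
    · rw [show q i = b ⟨i, (by omega : i < m' + 1)⟩ from (hb ⟨i, _⟩).symm, Basis.constr_basis]
    · subst h
      rw [sub_self, mul_zero, zero_smul, show q m = 0 by simp only [q]; rw [hm']; exact hT' v,
        map_zero]
  have hTF : ∀ i, i ≤ m → T (F (q i)) = ((i : k) * ((m : k) - i)) • q i := by
    intro i hi
    rw [hFq i hi, map_smul, hTq]
    rcases Nat.eq_zero_or_pos i with h | h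
    · subst h; simp
    · rw [Nat.sub_add_cancel h]
  have hFT : ∀ i, i < m → F (T (q i)) = (((i : k) + 1) * ((m : k) - i - 1)) • q i := by
    intro i hi
    rw [hTq, hFq (i + 1) (by omega), Nat.add_sub_cancel]
    congr 1; push_cast; ring
  have hH : ∀ i, i ≤ m → brk T F (q i) = (2 * (i : k) + 1 - m) • q i := by
    intro i hi
    rw [brk_apply, LinearMap.sub_apply, Module.End.mul_apply, Module.End.mul_apply, hTF i hi]
    rcases lt_or_eq_of_le hi with h | h
    · rw [hFT i h, ← sub_smul]; congr 1; ring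
    · subst h
      have h0 : q m = 0 := by simp only [q]; rw [hm']; exact hT' v
      simp [h0]
  refine ⟨F, b.ext fun i => ?_, ?_⟩
  · rw [sq, Module.End.mul_apply, show b i = q i from hb i, brk_apply, LinearMap.sub_apply,
      Module.End.mul_apply, Module.End.mul_apply, hH _ (by omega), map_smul, hTq,
      hH _ (by omega : (i : ℕ) + 1 ≤ m), ← sub_smul, LinearMap.smul_apply, hTq]
    congr 1; push_cast; ring
  · rw [LinearMap.trace_eq_matrix_trace k b, Matrix.trace]
    have hd : ∀ i : Fin (m' + 1), (LinearMap.toMatrix b b (T * F)).diag i =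
        (((i : ℕ) * (m - (i : ℕ)) : ℕ) : k) := by
      intro i
      rw [Matrix.diag_apply, LinearMap.toMatrix_apply, Module.End.mul_apply,
        show b i = q i from hb i, hTF _ (by omega), map_smul, show q i = b i from (hb i).symm,
        Basis.repr_self, Finsupp.smul_apply, Finsupp.single_eq_same, smul_eq_mul, mul_one,
        Nat.cast_mul, Nat.cast_sub (by omega)]
    rw [sum_congr rfl fun i _ => hd i, Fin.sum_univ_eq_sum_range (fun i => ((i * (m - i) : ℕ) : k)),
      ← Nat.cast_sum, ← hm']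
    intro h0
    have h6 := congrArg (Nat.cast : ℕ → k) (six_mul_sum (m := m))
    push_cast at h6 h0
    rw [h0, mul_zero, zero_add] at h6
    have h7 : ((m * ((m - 1) * (m + 1)) : ℕ) : k) = 0 := by
      rw [Nat.cast_mul, Nat.cast_mul, Nat.cast_sub (by omega)]
      push_cast
      linear_combination -h6
    rw [CharP.cast_eq_zero_iff k p, hp.out.dvd_mul, hp.out.dvd_mul] at h7
    rcases h7 with h7 | h7 | h7 <;> have := Nat.le_of_dvd (by omega) h7 <;> omega

variable {G : Type*} [Group G] [Finite G]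

/-- A three-dimensional representation with one block. -/
theorem exists_three (σ : G →* Module.End k W) (S : DefectOne.Local p G)
    (hsq : ¬ p ^ 2 ∣ Nat.card G) (hs : Single (σ S.x - 1))
    (hscal : ∀ v ∈ S.V, ∃ c : k, σ v = c • 1) (hm2 : 2 ≤ finrank k W)
    (hm : 2 * finrank k W < p) :
    ∃ τ : G →* Matrix (Fin 3) (Fin 3) k, (τ S.x - 1) ^ 3 = 0 ∧ (τ S.x - 1) ^ 2 ≠ 0 := by
  classical
  have hx := S.order_x
  set T := σ S.x - 1 with hTdef
  clear_value T
  obtain ⟨F, hF2, hF0⟩ := exists_lower hs (by rw [hTdef]; exact T_pow_finrank σ hx) hm2 hm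
  let R : Module.End k (Module.End k W) := LinearMap.mulRight k (σ S.x⁻¹)
  have hTx : Commute T (σ S.x⁻¹) := by
    rw [hTdef]
    refine Commute.sub_left ?_ (Commute.one_left _)
    show σ S.x * σ S.x⁻¹ = σ S.x⁻¹ * σ S.x
    rw [mul_inv_self, inv_mul_self]
  have hdec : adRep σ S.x - 1 = R * brk T := LinearMap.ext fun f => by
    simp only [R, hTdef, LinearMap.sub_apply, Module.End.mul_apply, Module.End.one_apply,
      adRep_apply, brk_apply, LinearMap.mulRight_apply, sub_mul, mul_sub, one_mul, mul_one,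
      mul_assoc, mul_inv_self]
    abel
  have hRD : Commute R (brk T) := LinearMap.ext fun f => by
    simp only [R, Module.End.mul_apply, brk_apply, LinearMap.mulRight_apply, sub_mul]
    simp only [mul_assoc, hTx.eq]
  have hpowR : ∀ j f, (R ^ j) f = f * σ S.x⁻¹ ^ j := fun j f => by
    simp only [R, LinearMap.pow_mulRight, LinearMap.mulRight_apply]
  have hpow : ∀ j f, ((adRep σ S.x - 1) ^ j) f = (brk T ^ j) f * σ S.x⁻¹ ^ j := fun j f => by
    rw [hdec, hRD.mul_pow, Module.End.mul_apply, hpowR]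
  have hF3 : (brk T ^ 3) F = 0 := by
    rw [pow_succ', Module.End.mul_apply, hF2, map_smul, brk_apply, sub_self, smul_zero]
  have h2 : (2 : k) ≠ 0 := fun h => by
    have : ((2 : ℕ) : k) = 0 := by exact_mod_cast h
    have := natCast_eq_zero_of_lt (p := p) this (by omega)
    omega
  have hnr : ((adRep σ S.x - 1 : Module.End k (Module.End k W)) ^ 2) F ∉
      LinearMap.range ((adRep σ S.x - 1 : Module.End k (Module.End k W)) ^ 3) := by
    rintro ⟨g, hg⟩
    rw [hpow, hpow, hF2] at hg
    apply hF0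
    have hcomZ : ∀ j, (brk T ^ j) (σ S.x⁻¹ * F) = σ S.x⁻¹ * (brk T ^ j) F := by
      intro j
      induction j with
      | zero => rfl
      | succ j ih =>
        rw [pow_succ', Module.End.mul_apply, ih, Module.End.mul_apply, brk_apply, brk_apply,
          mul_sub, ← mul_assoc, hTx.eq, mul_assoc, mul_assoc]
    have h1 := congrArg (fun z => LinearMap.trace k W (z * σ S.x ^ 3 * (σ S.x⁻¹ * F))) hg
    have hxx : ∀ j, σ S.x⁻¹ ^ j * σ S.x ^ j = 1 := fun j => by
      rw [← (show Commute (σ S.x⁻¹) (σ S.x) by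
        show _ = _; rw [mul_inv_self, inv_mul_self]).mul_pow, inv_mul_self, one_pow]
    simp only [mul_assoc] at h1
    rw [← mul_assoc (σ S.x⁻¹ ^ 3), hxx, one_mul, trace_brk_pow, hcomZ, hF3, mul_zero, mul_zero,
      map_zero, mul_zero] at h1
    have h3 : σ S.x⁻¹ ^ 2 * (σ S.x ^ 3 * (σ S.x⁻¹ * F)) = F := by
      rw [pow_succ (σ S.x) 2, mul_assoc (σ S.x ^ 2), ← mul_assoc (σ S.x) (σ S.x⁻¹), mul_inv_self,
        one_mul, ← mul_assoc, hxx, one_mul]
    rw [h3, smul_mul_assoc, map_smul, smul_eq_mul, eq_comm, mul_eq_zero, neg_eq_zero] at h1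
    exact h1.resolve_left h2
  -- the normalizer
  have hVad : ∀ v ∈ S.V, adRep σ v = 1 := fun v hv => LinearMap.ext fun f => by
    obtain ⟨c, hc⟩ := hscal v hv
    refine (adRep_eq_iff σ).mpr ?_
    rw [hc]; exact (Commute.one_right f).smul_right c
  have hCad : ∀ c : G, Commute c S.x → ∃ i : ℕ, adRep σ c = adRep σ S.x ^ i := by
    intro c hc
    obtain ⟨i, v, hv, rfl⟩ := S.factor c hc
    exact ⟨i, by rw [map_mul, hVad v hv, mul_one, map_pow]⟩
  set y := S.u ^ p with hy
  have hd : Commute (y⁻¹ * S.u) S.x := by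
    have : y⁻¹ * S.u = (S.u ^ (p - 1))⁻¹ := by
      obtain ⟨q, hq⟩ : ∃ q, p = q + 1 := ⟨p - 1, by have := hp.out.two_le; omega⟩
      rw [hy, show p - 1 = q by omega]
      have e : S.u ^ p = S.u * S.u ^ q := (congrArg (S.u ^ ·) hq).trans (pow_succ' _ _)
      rw [e, mul_inv_rev, inv_mul_cancel_right]
    rw [this]; exact S.u_pow.inv_left
  have hyu : Commute y (y⁻¹ * S.u) := by
    have h : Commute y S.u := (Commute.refl S.u).pow_left p
    exact (Commute.refl y).inv_right.mul_right h
  have hcov : ∀ n ∈ normalizer ((zpowers S.x : Subgroup G) : Set G),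
      ∃ i j : ℕ, adRep σ n = adRep σ y ^ j * adRep σ S.x ^ i := by
    intro n hn
    obtain ⟨i, hi⟩ := S.cover n ((mem_normalizer_iff.mp hn S.x).mp (mem_zpowers _))
    obtain ⟨a, ha⟩ := hCad _ hd
    obtain ⟨b, hb⟩ := hCad _ hi
    refine ⟨a * i + b, i, ?_⟩
    have hn' : n = y ^ i * (y⁻¹ * S.u) ^ i * ((S.u ^ i)⁻¹ * n) := by
      rw [← hyu.mul_pow, mul_inv_cancel_left, mul_inv_cancel_left]
    rw [hn', map_mul, map_mul, map_pow (adRep σ) y i, map_pow (adRep σ) (y⁻¹ * S.u) i, ha, hb,
      pow_add, pow_mul, mul_assoc]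
  have hyx : y * S.x * y⁻¹ ∈ zpowers S.x := by
    have hu : S.u ∈ normalizer ((zpowers S.x : Subgroup G) : Set G) :=
      mem_normalizer_of_conj fun z hz => by
        obtain ⟨i, rfl⟩ := mem_zpowers_iff.mp hz
        rw [← conj_zpow]; exact zpow_mem S.u_mem i
    exact (mem_normalizer_iff.mp (pow_mem hu p) S.x).mp (mem_zpowers _)
  have hypow : adRep σ y ^ (p - 1) = 1 := by
    obtain ⟨a, ha⟩ := hCad _ S.u_pow
    rw [hy, ← map_pow, ← pow_mul, mul_comm, pow_mul, map_pow, ha, ← pow_mul, mul_comm, pow_mul,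
      ← map_pow, S.x_pow_p, map_one, one_pow]
  obtain ⟨a, ha, haG, hrank, v, hv, hv2⟩ := exists_block_submodule (σ := adRep σ) hx hsq
    (adT_pow σ hx hm.le) hyx hcov hypow (s := 2)
    (show ((adRep σ S.x - 1 : Module.End k (Module.End k W)) ^ (2 + 1)) F = 0 by rw [hpow, hF3, zero_mul]) hnr
  have hinv : ∀ g, ∀ u ∈ range a, adRep σ g u ∈ range a := fun g u hu => invariant_range haG g hu
  let ρ3 := subRep (adRep σ) (range a) hinv
  let B : Basis (Fin 3) k (range a) := Module.finBasisOfFinrankEq k _ hrank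
  refine ⟨(LinearMap.toMatrixAlgEquiv B).toAlgHom.toRingHom.toMonoidHom.comp ρ3, ?_, ?_⟩
  · show (LinearMap.toMatrixAlgEquiv B (ρ3 S.x) - 1) ^ 3 = 0
    rw [← map_one (LinearMap.toMatrixAlgEquiv B), ← map_sub, ← map_pow,
      (by have := T_pow_finrank ρ3 hx; rwa [hrank] at this :
        (ρ3 S.x - 1 : Module.End k (range a)) ^ 3 = 0), map_zero]
  · show (LinearMap.toMatrixAlgEquiv B (ρ3 S.x) - 1) ^ 2 ≠ 0
    rw [← map_one (LinearMap.toMatrixAlgEquiv B), ← map_sub, ← map_pow]
    intro h
    have h1 : ((ρ3 S.x - 1 : Module.End k (range a)) ^ 2) ⟨v, hv⟩ = 0 := by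
      rw [(LinearMap.toMatrixAlgEquiv B).injective (h.trans (map_zero _).symm), LinearMap.zero_apply]
    apply hv2
    have h2' := congrArg Subtype.val h1
    rw [sq, Module.End.mul_apply] at h2' ⊢
    exact h2'

end Cfsg.Agent.Lib.HalfPSL
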