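/-
A perfect group with a Sylow subgroup of order `p` mapping into `PGL₂` of characteristic `p`
has image `PSL₂(p)`.
-/
import Mathlib
import Cfsg.Agent.Lib.SL2.Dickson
import Cfsg.Agent.Lib.SL2.PGLBasic
import Cfsg.Agent.Lib.SL2.Overgroup

set_option autoImplicit false
set_option linter.unusedSectionVars false
set_option linter.style.haveILetI false

namespace Cfsg.Agent.Lib.HalfPSL

open Matrix Cfsg.Agent.Lib.SL2
open scoped commutatorElement

/-- Perfect groups have no nontrivial homomorphisms to commutative groups. -/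
theorem map_eq_one_of_perfect {H A : Type*} [Group H] [CommGroup A] (hH : commutator H = ⊤)
    (f : H →* A) (h : H) : f h = 1 := by
  have h1 := Abelianization.commutator_subset_ker f
  rw [hH] at h1
  exact MonoidHom.mem_ker.mp (h1 (Subgroup.mem_top h))

/-- A perfect group has trivial image in an abelian group. -/
theorem map_eq_one_of_range_comm {H Q : Type*} [Group H] [Group Q] (hH : commutator H = ⊤)
    (f : H →* Q) (hc : ∀ a b, f a * f b = f b * f a) (h : H) : f h = 1 := by
  letI : CommGroup f.range :=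
    { (inferInstance : Group f.range) with
      mul_comm := by rintro ⟨_, a, rfl⟩ ⟨_, b, rfl⟩; exact Subtype.ext (hc a b) }
  exact congrArg Subtype.val (map_eq_one_of_perfect hH f.rangeRestrict h)

/-- A perfect group mapping to `PGL₂` lands in `PSL₂`. -/
theorem exists_lift_psl {H : Type*} [Group H] (hH : commutator H = ⊤) {K : Type*} [Field K]
    (Φ : H →* PGLtwo K) : ∃ Ψ : H →* PSLtwo K, ∀ h, toP (Ψ h) = Φ h := by
  have hr : ∀ h, Φ h ∈ (toP (F := K)).range := by
    intro h
    have : h ∈ commutator H := hH ▸ Subgroup.mem_top h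
    rw [commutator_def] at this
    refine (show ⁅(⊤ : Subgroup H), ⊤⁆ ≤ (toP (F := K)).range.comap Φ from ?_) this
    rw [Subgroup.commutator_le]
    intro a _ b _
    rw [Subgroup.mem_comap, map_commutatorElement, ← range_mk_toGL]
    obtain ⟨A, hA⟩ := ProjGenLinGroup.mk_surjective (Φ a)
    obtain ⟨B, hB⟩ := ProjGenLinGroup.mk_surjective (Φ b)
    rw [← hA, ← hB, ← map_commutatorElement]
    have hd : GeneralLinearGroup.det ⁅A, B⁆ = 1 := by
      rw [map_commutatorElement, commutatorElement_eq_one_iff_commute]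
      exact Commute.all _ _
    exact ⟨⟨(⁅A, B⁆ : GL (Fin 2) K), by rw [← GeneralLinearGroup.val_det_apply, hd, Units.val_one]⟩, congrArg (ProjGenLinGroup.mk (n := Fin 2) (R := K)) (Units.ext rfl)⟩
  let e := MonoidHom.ofInjective (toP_injective (F := K))
  refine ⟨e.symm.toMonoidHom.comp (Φ.codRestrict _ hr), fun h => ?_⟩
  exact congrArg Subtype.val (e.apply_symm_apply ⟨Φ h, hr h⟩)

variable {p : ℕ} [hp : Fact p.Prime]

theorem card_psl_five : Nonempty (PSLtwo (ZMod 5) ≃* alternatingGroup (Fin 5)) := by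
  haveI : Fact (Nat.Prime 5) := ⟨by norm_num⟩
  have hu : proj (upper (1 : ZMod 5)) ≠ 1 := by
    intro h
    have := proj_upper_injective (F := ZMod 5) (a₁ := 1) (a₂ := 0) (by simpa [upper_zero] using h)
    exact one_ne_zero this
  have hun : IsUnip (proj (upper (1 : ZMod 5))) := ⟨upper 1, rfl, by simp [tr]; rfl⟩
  have hA : IsMember (⊤ : Subgroup (PSLtwo (ZMod 5))) (torus (proj (upper 1))) :=
    ⟨_, Subgroup.mem_top _, hu, (inf_top_eq _).symm⟩
  have hc : Nat.card (torus (proj (upper (1 : ZMod 5)))) = 5 := by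
    rw [card_torus_unip hun hu, ZMod.card]
  obtain ⟨y, hy, hyc⟩ := exists_gen_of_prime hA (by norm_num : Nat.Prime 5) (by norm_num) hc
  have hcard : Nat.card (⊤ : Subgroup (PSLtwo (ZMod 5))) = 60 := by
    rw [Subgroup.card_top, card_PSL, ZMod.card]; rfl
  obtain ⟨e⟩ := iso_alternating_five hy hyc hcard
  exact ⟨Subgroup.topEquiv.symm.trans e⟩

/-- The image in `PSL₂` of a finite field. -/
theorem range_psl_finite {F : Type*} [Field F] [Fintype F] [CharP F p] (hp5 : 5 ≤ p)
    {H : Type*} [Group H] [Finite H] (hH : commutator H = ⊤) (hsq : ¬ p ^ 2 ∣ Nat.card H)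
    {x : H} (hx : orderOf x = p)
    (hgen : Subgroup.closure {y : H | ∃ g, y = g * x * g⁻¹} = ⊤) (Ψ : H →* PSLtwo F)
    (hΨ : Ψ x ≠ 1) : Nonempty (Ψ.range ≃* PSLtwo (ZMod p)) := by
  classical
  have hp2 : p ≠ 2 := by omega
  have hord : orderOf (Ψ x) = p := orderOf_eq_prime (by rw [← map_pow, ← hx, pow_orderOf_eq_one,
    map_one]) hΨ
  have hpd : p ∣ Nat.card Ψ.range := by
    have h := orderOf_dvd_natCard (⟨Ψ x, x, rfl⟩ : Ψ.range)
    rwa [← Subgroup.orderOf_coe, hord] at h
  have hdvd : Nat.card Ψ.range ∣ Nat.card H := Subgroup.card_range_dvd Ψ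
  have hperf : ∀ {A : Type} [CommGroup A] (f : Ψ.range →* A) (r : Ψ.range), f r = 1 := by
    intro A _ f r
    obtain ⟨_, h, rfl⟩ := r
    exact map_eq_one_of_perfect hH (f.comp Ψ.rangeRestrict) h
  rcases dickson p Ψ.range with h | ⟨A, hA, -, ⟨hc, -⟩ | ⟨⟨e⟩⟩⟩ | ⟨u, hu, hu1, hle⟩ |
    ⟨⟨⟨e⟩⟩ | ⟨⟨e⟩⟩ | ⟨⟨e⟩⟩⟩ | ⟨K, δ, -, hK⟩
  · exact absurd (Subgroup.mem_bot.1 (h ▸ (⟨x, rfl⟩ : Ψ x ∈ Ψ.range))) hΨ
  · refine absurd (map_eq_one_of_range_comm hH Ψ (fun a b => ?_) x) hΨ
    haveI := hc
    letI := IsCyclic.commGroup (α := Ψ.range)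
    exact congrArg Subtype.val (mul_comm (⟨Ψ a, a, rfl⟩ : Ψ.range) ⟨Ψ b, b, rfl⟩)
  · exfalso
    let sgn : DihedralGroup (Nat.card A) → Multiplicative (ZMod 2) := fun d => match d with
      | .r _ => 1
      | .sr _ => Multiplicative.ofAdd 1
    let f : DihedralGroup (Nat.card A) →* Multiplicative (ZMod 2) :=
      { toFun := sgn
        map_one' := rfl
        map_mul' := by
          rintro (i | i) (j | j)
          · rfl
          · rfl
          · rfl
          · show (1 : Multiplicative (ZMod 2)) = Multiplicative.ofAdd 1 * Multiplicative.ofAdd 1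
            decide }
    have h := hperf (f.comp e.toMonoidHom) (e.symm (.sr 0))
    rw [MonoidHom.comp_apply, MulEquiv.coe_toMonoidHom, MulEquiv.apply_symm_apply] at h
    exact absurd h (by decide : ¬ (Multiplicative.ofAdd (1 : ZMod 2)) = 1)
  · exfalso
    have hmem : ∀ h, Ψ h ∈ torus u := by
      intro h
      have hh : h ∈ Subgroup.closure {y : H | ∃ g, y = g * x * g⁻¹} := hgen ▸ Subgroup.mem_top h
      refine (Subgroup.closure_le ((torus u).comap Ψ)).2 ?_ hh
      rintro _ ⟨g, rfl⟩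
      rw [SetLike.mem_coe, Subgroup.mem_comap]
      refine mem_torus_of_mem_normalizer p hu hu1 (hle ⟨_, rfl⟩) ?_
      rw [← map_pow, conj_pow, ← hx, pow_orderOf_eq_one, mul_one, mul_inv_cancel, map_one]
    exact hΨ (map_eq_one_of_range_comm hH Ψ (fun a b => torus_comm hu1 (hmem a) (hmem b)) x)
  · exfalso
    rw [Nat.card_congr e.toEquiv, show Nat.card (alternatingGroup (Fin 4)) = 2 ^ 2 * 3 by
      rw [nat_card_alternatingGroup, Nat.card_fin]; rfl] at hpd
    rcases hp.out.dvd_mul.1 hpd with h | h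
    · have := Nat.le_of_dvd two_pos (hp.out.dvd_of_dvd_pow h); omega
    · have := Nat.le_of_dvd (by norm_num) h; omega
  · exfalso
    rw [Nat.card_congr e.toEquiv, show Nat.card (Equiv.Perm (Fin 4)) = 2 ^ 3 * 3 by
      rw [Nat.card_perm, Nat.card_fin]; rfl] at hpd
    rcases hp.out.dvd_mul.1 hpd with h | h
    · have := Nat.le_of_dvd two_pos (hp.out.dvd_of_dvd_pow h); omega
    · have := Nat.le_of_dvd (by norm_num) h; omega
  · rw [Nat.card_congr e.toEquiv, show Nat.card (alternatingGroup (Fin 5)) = 2 ^ 2 * 3 * 5 by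
      rw [nat_card_alternatingGroup, Nat.card_fin]; rfl] at hpd
    obtain rfl : p = 5 := by
      rcases hp.out.dvd_mul.1 hpd with h | h
      · rcases hp.out.dvd_mul.1 h with h | h
        · have := Nat.le_of_dvd two_pos (hp.out.dvd_of_dvd_pow h); omega
        · have := Nat.le_of_dvd (by norm_num) h; omega
      · have := Nat.le_of_dvd (by norm_num) h; omega
    obtain ⟨e5⟩ := card_psl_five
    exact ⟨e.trans e5.symm⟩
  · haveI : Fintype K := Fintype.ofFinite K
    haveI : CharP K p := (RingHom.charP_iff K.subtype Subtype.val_injective p).2 inferInstance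
    let e1 : Ψ.range ≃* (Ψ.range.map ProjectiveSpecialLinearGroup.toPGL : Subgroup (PGLtwo F)) :=
      Subgroup.equivMapOfInjective _ _ ProjectiveSpecialLinearGroup.toPGL_injective
    rcases hK with hK | hK
    · exfalso
      let e2 : Ψ.range ≃* PGLtwo K := (e1.trans (MulEquiv.subgroupCongr hK)).trans
        ((Subgroup.equivMapOfInjective _ _ (MulAut.conj δ).injective).symm.trans (rangeGlMapEquiv K))
      obtain ⟨a, ha⟩ := FiniteField.exists_nonsquare (F := K) (by rwa [ringChar.eq K p])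
      have ha0 : a ≠ 0 := fun h => ha (h ▸ IsSquare.zero)
      let S : Subgroup Kˣ := (powMonoidHom 2 : Kˣ →* Kˣ).range
      let f : GL (Fin 2) K →* Kˣ ⧸ S := (QuotientGroup.mk' S).comp GeneralLinearGroup.det
      have hker : Subgroup.center (GL (Fin 2) K) ≤ f.ker := by
        intro g hg
        rw [GeneralLinearGroup.center_eq_range_scalar] at hg
        obtain ⟨c, rfl⟩ := hg
        rw [MonoidHom.mem_ker]
        show (QuotientGroup.mk' S) _ = 1
        rw [QuotientGroup.mk'_apply, QuotientGroup.eq_one_iff]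
        exact ⟨c, Units.ext (by simp [GeneralLinearGroup.val_det_apply, det_fin_two, sq])⟩
      let f' : PGLtwo K →* Kˣ ⧸ S := QuotientGroup.lift _ f hker
      let g : GL (Fin 2) K := GeneralLinearGroup.mkOfDetNeZero !![a, 0; 0, 1] (by simp [det_fin_two, ha0])
      obtain ⟨_, h, rfl⟩ := id (e2.symm (ProjGenLinGroup.mk g))
      have h1 : f' (ProjGenLinGroup.mk g) = 1 := by
        obtain ⟨y, hy⟩ := e2.surjective (ProjGenLinGroup.mk g)
        obtain ⟨_, h', rfl⟩ := y
        rw [← hy]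
        exact map_eq_one_of_range_comm hH ((f'.comp e2.toMonoidHom).comp Ψ.rangeRestrict)
          (fun a b => by
            obtain ⟨u, hu⟩ := QuotientGroup.mk'_surjective S
              (((f'.comp e2.toMonoidHom).comp Ψ.rangeRestrict) a)
            obtain ⟨v, hv⟩ := QuotientGroup.mk'_surjective S
              (((f'.comp e2.toMonoidHom).comp Ψ.rangeRestrict) b)
            rw [← hu, ← hv, ← map_mul, ← map_mul, mul_comm u v]) h'
      have h2 : GeneralLinearGroup.det g ∈ S := (QuotientGroup.eq_one_iff _).1 h1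
      obtain ⟨c, hc⟩ := h2
      refine ha ⟨c, ?_⟩
      have := congrArg Units.val hc
      simpa [g, sq] using this.symm
    · let e2 : Ψ.range ≃* PSLtwo K := (e1.trans (MulEquiv.subgroupCongr hK)).trans
        ((Subgroup.equivMapOfInjective _ _ (MulAut.conj δ).injective).symm.trans (rangeSlMapEquiv K))
      let φ : Multiplicative K →* PSLtwo K := proj.comp upperHom
      have hφ : Function.Injective φ := fun a b h =>
        Multiplicative.toAdd.injective (proj_upper_injective h)
      have hq : Nat.card K ∣ Nat.card H := by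
        refine (Dvd.dvd.trans ?_ (Nat.card_congr e2.symm.toEquiv).dvd).trans hdvd
        have := Subgroup.card_dvd_of_injective φ hφ
        rwa [Nat.card_congr Multiplicative.toAdd] at this
      obtain ⟨n, -, hn⟩ := FiniteField.card K p
      rw [Nat.card_eq_fintype_card, hn] at hq
      have hn1 : (n : ℕ) = 1 := by
        by_contra h
        exact hsq ((pow_dvd_pow p (by have := n.pos; omega)).trans hq)
      rw [hn1, pow_one] at hn
      exact ⟨e2.trans (pslCongr (ZMod.ringEquivOfPrime K hp.out hn).symm)⟩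

theorem exists_central_factor {k : Type*} [Field k] {a b : GL (Fin 2) k}
    (h : ProjGenLinGroup.mk a = ProjGenLinGroup.mk b) :
    ∃ c : k, (a : Matrix (Fin 2) (Fin 2) k) = c • (b : Matrix (Fin 2) (Fin 2) k) := by
  have hc : a * b⁻¹ ∈ Subgroup.center (GL (Fin 2) k) := by
    rw [← ProjGenLinGroup.mk_eq_one, map_mul, map_inv, h, mul_inv_cancel]
  rw [GeneralLinearGroup.center_eq_range_scalar] at hc
  obtain ⟨c, hc⟩ := hc
  refine ⟨c, ?_⟩
  rw [eq_mul_inv_iff_mul_eq] at hc
  rw [← hc]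
  ext i j
  fin_cases i <;> fin_cases j <;> simp [Matrix.mul_apply, Fin.sum_univ_two]

/-- The image in `PGL₂` of characteristic `p`, by specialisation to a finite field. -/
theorem exists_quot_psl {k : Type*} [Field k] [CharP k p] (hp5 : 5 ≤ p) {H : Type*} [Group H]
    [Finite H] (hH : commutator H = ⊤) (hsq : ¬ p ^ 2 ∣ Nat.card H) {x : H} (hx : orderOf x = p)
    (hgen : Subgroup.closure {y : H | ∃ g, y = g * x * g⁻¹} = ⊤) (Φ : H →* PGLtwo k)
    (hΦ : Φ x ≠ 1) :
    ∃ K : Subgroup H, ∃ _ : K.Normal, x ∉ K ∧ Nonempty (H ⧸ K ≃* PSLtwo (ZMod p)) := by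
  classical
  haveI : Fintype H := Fintype.ofFinite H
  letI : Algebra (ZMod p) k := ZMod.algebra k p
  choose D hD using fun h => ProjGenLinGroup.mk_surjective (Φ h)
  have hrel : ∀ g h, ∃ c : k, ((D g * D h : GL (Fin 2) k) : Matrix (Fin 2) (Fin 2) k) =
      c • (D (g * h) : Matrix (Fin 2) (Fin 2) k) := fun g h =>
    exists_central_factor (by rw [map_mul, hD, hD, hD, map_mul])
  choose c hc using hrel
  let d : H → k := fun h => (D h : Matrix (Fin 2) (Fin 2) k).det
  -- a witness that `D x` is not scalar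
  obtain ⟨w, hw0, hw⟩ : ∃ w : k, w ≠ 0 ∧
      (w = (D x : Matrix (Fin 2) (Fin 2) k) 0 1 ∨ w = (D x : Matrix (Fin 2) (Fin 2) k) 1 0 ∨
        w = (D x : Matrix (Fin 2) (Fin 2) k) 0 0 - (D x : Matrix (Fin 2) (Fin 2) k) 1 1) := by
    by_contra hcon
    push Not at hcon
    have e01 : (D x : Matrix (Fin 2) (Fin 2) k) 0 1 = 0 := by_contra fun h => (hcon _ h).1 rfl
    have e10 : (D x : Matrix (Fin 2) (Fin 2) k) 1 0 = 0 := by_contra fun h => (hcon _ h).2.1 rfl
    have e11 : (D x : Matrix (Fin 2) (Fin 2) k) 0 0 - (D x : Matrix (Fin 2) (Fin 2) k) 1 1 = 0 :=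
      by_contra fun h => (hcon _ h).2.2 rfl
    refine hΦ ?_
    rw [← hD x, ProjGenLinGroup.mk_eq_one, GeneralLinearGroup.center_eq_range_scalar]
    have hne : (D x : Matrix (Fin 2) (Fin 2) k) 0 0 ≠ 0 := fun h =>
      GeneralLinearGroup.det_ne_zero (D x) (by simp [det_fin_two, h, e01])
    refine ⟨Units.mk0 _ hne, Units.ext ?_⟩
    ext i j
    fin_cases i <;> fin_cases j <;> simp [e01, e10, ← sub_eq_zero.1 e11]
  let s : Finset k := (Finset.univ.image fun t : H × Fin 2 × Fin 2 =>
      (D t.1 : Matrix (Fin 2) (Fin 2) k) t.2.1 t.2.2) ∪ (Finset.univ.image fun h => (d h)⁻¹) ∪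
    (Finset.univ.image fun t : H × H => c t.1 t.2) ∪ {w⁻¹}
  let R := Algebra.adjoin (ZMod p) (s : Set k)
  have hs : ∀ a ∈ s, a ∈ R := fun a ha => Algebra.subset_adjoin ha
  have hsD : ∀ h i j, (D h : Matrix (Fin 2) (Fin 2) k) i j ∈ R := fun h i j => hs _ (by
    simp only [s, Finset.mem_union, Finset.mem_image]
    exact Or.inl (Or.inl (Or.inl ⟨(h, i, j), Finset.mem_univ _, rfl⟩)))
  have hsd : ∀ h, (d h)⁻¹ ∈ R := fun h => hs _ (by
    simp only [s, Finset.mem_union, Finset.mem_image]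
    exact Or.inl (Or.inl (Or.inr ⟨h, Finset.mem_univ _, rfl⟩)))
  have hsc : ∀ g h, c g h ∈ R := fun g h => hs _ (by
    simp only [s, Finset.mem_union, Finset.mem_image]
    exact Or.inl (Or.inr ⟨(g, h), Finset.mem_univ _, rfl⟩))
  have hsw : w⁻¹ ∈ R := hs _ (Finset.mem_union_right _ (Finset.mem_singleton_self _))
  haveI : Algebra.FiniteType (ZMod p) R := (Subalgebra.fg_iff_finiteType R).1 ⟨s, rfl⟩
  obtain ⟨m, hm⟩ := Ideal.exists_maximal R
  letI : Field (R ⧸ m) := Ideal.Quotient.field m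
  haveI : Algebra.FiniteType (ZMod p) (R ⧸ m) :=
    Algebra.FiniteType.of_surjective (Ideal.Quotient.mkₐ (ZMod p) m)
      (Ideal.Quotient.mkₐ_surjective (ZMod p) m)
  haveI : Module.Finite (ZMod p) (R ⧸ m) := finite_of_finite_type_of_isJacobsonRing (ZMod p) _
  haveI : Finite (R ⧸ m) := Module.finite_of_finite (ZMod p)
  haveI : Fintype (R ⧸ m) := Fintype.ofFinite _
  haveI : CharP (R ⧸ m) p := charP_of_injective_algebraMap (algebraMap (ZMod p) (R ⧸ m)).injective p
  let π : R →+* R ⧸ m := Ideal.Quotient.mk m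
  have hunit : ∀ a : R, (∃ b : R, (a : k) * b = 1) → π a ≠ 0 := by
    rintro a ⟨b, hb⟩ h
    have h1 : a * b = 1 := Subtype.ext hb
    have := congrArg π h1
    rw [map_mul, h, zero_mul, map_one] at this
    exact zero_ne_one this
  let M : H → Matrix (Fin 2) (Fin 2) R := fun h i j =>
    ⟨(D h : Matrix (Fin 2) (Fin 2) k) i j, hsD h i j⟩
  have hM : ∀ h, (M h).map (R.val : R →+* k) = (D h : Matrix (Fin 2) (Fin 2) k) :=
    fun h => Matrix.ext fun _ _ => rfl
  have hMd : ∀ h, ((M h).map π).det ≠ 0 := fun h => by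
    rw [← RingHom.mapMatrix_apply, ← RingHom.map_det]
    refine hunit _ ⟨⟨(d h)⁻¹, hsd h⟩, ?_⟩
    show (R.val : R →+* k) (M h).det * (d h)⁻¹ = 1
    rw [RingHom.map_det, RingHom.mapMatrix_apply, hM]
    exact mul_inv_cancel₀ (GeneralLinearGroup.det_ne_zero (D h))
  let D' : H → GL (Fin 2) (R ⧸ m) := fun h => GeneralLinearGroup.mkOfDetNeZero _ (hMd h)
  have hmul : ∀ g h, ProjGenLinGroup.mk (D' g * D' h) = ProjGenLinGroup.mk (D' (g * h)) := by
    intro g h
    let c0 : R := ⟨c g h, hsc g h⟩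
    have e : M g * M h = c0 • M (g * h) := by
      apply Matrix.map_injective (f := (R.val : R →+* k)) Subtype.val_injective
      show (M g * M h).map (R.val : R →+* k) = (c0 • M (g * h)).map (R.val : R →+* k)
      rw [Matrix.map_mul, hM, hM, ← Units.val_mul, hc, ← hM (g * h)]
      ext i j
      simp [c0]
    have e' : (D' g * D' h).val =
        π c0 • (D' (g * h)).val := by
      show (M g).map π * (M h).map π = π c0 • (M (g * h)).map π
      rw [← Matrix.map_mul, e]
      ext i j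
      simp [map_mul]
    have hc0 : π c0 ≠ 0 := fun h0 => GeneralLinearGroup.det_ne_zero (D' g * D' h) (by
      rw [e', h0, zero_smul, det_zero])
    rw [← mul_inv_eq_one, ← map_inv, ← map_mul, ProjGenLinGroup.mk_eq_one,
      GeneralLinearGroup.center_eq_range_scalar]
    refine ⟨Units.mk0 _ hc0, ?_⟩
    rw [eq_mul_inv_iff_mul_eq]
    refine Units.ext ?_
    rw [e']
    ext i j
    fin_cases i <;> fin_cases j <;> simp [Matrix.mul_apply, Fin.sum_univ_two]
  let Φ' : H →* PGLtwo (R ⧸ m) := MonoidHom.mk' (fun h => ProjGenLinGroup.mk (D' h)) fun g h => by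
    rw [← map_mul, hmul]
  have hΦ' : Φ' x ≠ 1 := by
    intro h1
    have h2 : D' x ∈ Subgroup.center (GL (Fin 2) (R ⧸ m)) := ProjGenLinGroup.mk_eq_one.1 h1
    rw [GeneralLinearGroup.center_eq_range_scalar] at h2
    obtain ⟨u, hu⟩ := h2
    have he : ∀ i j, π (M x i j) = if i = j then (u : R ⧸ m) else 0 := by
      intro i j
      have := congrArg (fun z : GL (Fin 2) (R ⧸ m) => z.val i j) hu
      simp [Matrix.diagonal_apply, D'] at this
      exact this.symm
    have key : ∀ a : R, (a : k) = w → π a ≠ 0 := fun a ha =>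
      hunit a ⟨⟨w⁻¹, hsw⟩, by show (a : k) * w⁻¹ = 1; rw [ha, mul_inv_cancel₀ hw0]⟩
    rcases hw with e | e | e
    · exact key (M x 0 1) e.symm (by simpa using he 0 1)
    · exact key (M x 1 0) e.symm (by simpa using he 1 0)
    · exact key (M x 0 0 - M x 1 1) e.symm (by rw [map_sub, he, he]; simp)
  obtain ⟨Ψ, hΨ⟩ := exists_lift_psl hH Φ'
  have hΨx : Ψ x ≠ 1 := fun h => hΦ' (by rw [← hΨ, h, map_one])
  obtain ⟨e⟩ := range_psl_finite hp5 hH hsq hx hgen Ψ hΨx
  exact ⟨Ψ.ker, inferInstance, fun h => hΨx (MonoidHom.mem_ker.1 h),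
    ⟨(QuotientGroup.quotientKerEquivRange Ψ).trans e⟩⟩

end Cfsg.Agent.Lib.HalfPSL
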