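/-
A faithful representation has a faithful reduction modulo `p` when there is no normal subgroup of
order `p` and `p ^ 2` does not divide the group order.
-/
import Mathlib
import Cfsg.Agent.Lib.TIFixed

set_option autoImplicit false
set_option linter.unusedSectionVars false
set_option linter.style.haveILetI false

namespace Cfsg.Agent.Lib.HalfPSL

open Finset Cfsg.Agent.Lib

/-- A matrix of finite order prime to the residue characteristic, congruent to one, is one. -/
theorem eq_zero_of_one_add_pow {A : Type*} [CommRing A] [IsLocalRing A] {m : Type*} [Fintype m]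
    [DecidableEq m] {C : Matrix m m A} (hC : ∀ i j, C i j ∈ IsLocalRing.maximalIdeal A) {d : ℕ}
    (hd : IsUnit (d : A)) (h : (1 + C) ^ d = 1) : C = 0 := by
  classical
  let I : Ideal A := Ideal.span (Set.range fun t : m × m => C t.1 t.2)
  have hI : ∀ i j, C i j ∈ I := fun i j => Ideal.subset_span ⟨(i, j), rfl⟩
  let q : A →+* A ⧸ (I * I) := Ideal.Quotient.mk _
  have hC2 : C.map q * C.map q = 0 := by
    rw [← Matrix.map_mul]
    ext i j
    rw [Matrix.map_apply, Matrix.zero_apply, Ideal.Quotient.eq_zero_iff_mem, Matrix.mul_apply]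
    exact Ideal.sum_mem _ fun l _ => Ideal.mul_mem_mul (hI i l) (hI l j)
  have hpow : ∀ e : ℕ, (1 + C.map q) ^ e = 1 + (e : A ⧸ (I * I)) • C.map q := by
    intro e
    induction e with
    | zero => simp
    | succ e ih =>
      rw [pow_succ, ih, add_mul, one_mul, smul_mul_assoc, mul_add, mul_one, hC2, add_zero,
        Nat.cast_succ, add_smul, one_smul]
      abel
  have h1 : (d : A ⧸ (I * I)) • C.map q = 0 := by
    have h2 : (1 + C.map q) ^ d = 1 := by
      have := congrArg (RingHom.mapMatrix q) h
      rwa [map_pow, map_add, map_one, RingHom.mapMatrix_apply] at this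
    rw [hpow] at h2
    simpa using h2
  have hle : I ≤ I • I := by
    rw [Ideal.span_le]
    rintro _ ⟨⟨i, j⟩, rfl⟩
    have := congrFun (congrFun h1 i) j
    rw [Matrix.smul_apply, Matrix.map_apply, Matrix.zero_apply, smul_eq_mul, ← map_natCast q,
      ← map_mul, Ideal.Quotient.eq_zero_iff_mem, Ideal.unit_mul_mem_iff_mem _ hd] at this
    exact this
  have hjac : I ≤ Ideal.jacobson ⊥ := by
    rw [IsLocalRing.jacobson_eq_maximalIdeal ⊥ bot_ne_top, Ideal.span_le]
    rintro _ ⟨⟨i, j⟩, rfl⟩
    exact hC i j
  have hbot : I = ⊥ := Submodule.eq_bot_of_le_smul_of_le_jacobson_bot I I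
    (Submodule.fg_span (Set.finite_range _)) hle hjac
  ext i j
  have := hI i j
  rw [hbot, Ideal.mem_bot] at this
  simpa using this

universe u

/-- A representation can be written over any valuation ring of `ℂ`. -/
theorem exists_integral_rep {G : Type u} [Group G] [Finite G] (A : ValuationSubring ℂ) {d : ℕ}
    (ρ : Representation ℂ G (Fin d → ℂ)) :
    ∃ R : G →* Matrix (Fin d) (Fin d) A, ∀ g, R g = 1 → ρ g = 1 := by
  classical
  cases nonempty_fintype G
  let M : G →* Matrix (Fin d) (Fin d) ℂ :=
    (LinearMap.toMatrixAlgEquiv' (R := ℂ) (n := Fin d)).toMonoidHom.comp ρ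
  let cols : (Fin d → G × Fin d) → Matrix (Fin d) (Fin d) ℂ :=
    fun b => Matrix.of fun k j => M (b j).1 k (b j).2
  obtain ⟨b, -, hb⟩ := (univ : Finset (Fin d → G × Fin d)).exists_max_image
    (fun b => A.valuation (cols b).det) ⟨fun j => (1, j), mem_univ _⟩
  set B := cols b with hB
  have hone : cols (fun j => (1, j)) = 1 := by
    ext k j
    simp [cols, map_one]
  have hv : A.valuation B.det ≠ 0 := by
    have h1 := hb (fun j => (1, j)) (mem_univ _)
    simp only [hone, Matrix.det_one, map_one] at h1
    exact (zero_lt_one.trans_le h1).ne'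
  have hdet : IsUnit B.det := isUnit_iff_ne_zero.mpr fun h => hv (by rw [h, map_zero])
  have hmem : ∀ g i j, (B⁻¹ * (M g * B)) i j ∈ A := by
    intro g i j
    have hcol : ∀ k, (M g * B) k j = M (g * (b j).1) k (b j).2 := by
      intro k
      rw [map_mul, Matrix.mul_apply, Matrix.mul_apply]
      rfl
    have h1 : (B⁻¹ * (M g * B)) i j =
        (cols (Function.update b i (g * (b j).1, (b j).2))).det / B.det := by
      have h2 : B.updateCol i (fun k => (M g * B) k j) =
          cols (Function.update b i (g * (b j).1, (b j).2)) := by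
        ext k l
        by_cases hl : l = i
        · subst hl; simp [cols, hcol]
        · simp [cols, hl, hB, Matrix.updateCol_ne]
      rw [← h2, ← Matrix.cramer_apply, Matrix.cramer_eq_adjugate_mulVec, Matrix.inv_def,
        smul_mul_assoc, Matrix.smul_apply, smul_eq_mul, Ring.inverse_eq_inv', div_eq_inv_mul]
      rfl
    rw [← A.valuation_le_one_iff, h1, map_div₀, div_le_one₀ (zero_lt_iff.mpr hv)]
    exact hb _ (mem_univ _)
  let R : G →* Matrix (Fin d) (Fin d) A :=
    { toFun := fun g => Matrix.of fun i j => ⟨(B⁻¹ * (M g * B)) i j, hmem g i j⟩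
      map_one' := by
        refine Matrix.ext fun i j => Subtype.ext ?_
        show (B⁻¹ * (M 1 * B)) i j = (((1 : Matrix (Fin d) (Fin d) A) i j : A) : ℂ)
        rw [map_one, one_mul, Matrix.nonsing_inv_mul B hdet, Matrix.one_apply, Matrix.one_apply]
        split_ifs <;> rfl
      map_mul' := fun g h => by
        have h0 : B⁻¹ * (M (g * h) * B) = B⁻¹ * (M g * B) * (B⁻¹ * (M h * B)) := by
          rw [map_mul]
          simp only [Matrix.mul_assoc, Matrix.mul_nonsing_inv_cancel_left _ _ hdet]
        ext i j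
        show (B⁻¹ * (M (g * h) * B)) i j = _
        rw [h0, Matrix.mul_apply, Matrix.mul_apply, AddSubmonoidClass.coe_finsetSum]
        exact sum_congr rfl fun k _ => rfl }
  refine ⟨R, fun g hg => ?_⟩
  have h1 : A.subtype.mapMatrix (R g) = B⁻¹ * (M g * B) := rfl
  rw [hg, map_one] at h1
  have h2 := congrArg (fun Z => B * Z * B⁻¹) h1
  simp only [mul_one, Matrix.mul_assoc, Matrix.mul_nonsing_inv_cancel_left _ _ hdet,
    Matrix.mul_nonsing_inv _ hdet] at h2
  exact (LinearMap.toMatrixAlgEquiv' (R := ℂ) (n := Fin d)).injective (h2.symm.trans (map_one _).symm)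

/-- The faithful reduction. -/
theorem exists_modular {G : Type u} [Group G] [Finite G] (p : ℕ) [hp : Fact p.Prime]
    (hsq : ¬ p ^ 2 ∣ Nat.card G) (hnn : ∀ H : Subgroup G, H.Normal → Nat.card H ≠ p) {d : ℕ}
    (ρ : Representation ℂ G (Fin d → ℂ)) (hρ : ∀ g, ρ g = 1 → g = 1) :
    ∃ (k : Type) (_ : Field k) (_ : IsAlgClosed k) (_ : CharP k p)
      (σ : G →* Module.End k (Fin d → k)), Function.Injective σ := by
  classical
  obtain ⟨A, hA⟩ := TIFixed.exists_valuationSubring p hp.out
  have hpm : (p : A) ∈ IsLocalRing.maximalIdeal A := A.coe_mem_nonunits_iff.mp (by simpa using hA)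
  haveI : CharP (IsLocalRing.ResidueField A) p := (CharP.charP_iff_prime_eq_zero hp.out).mpr (by
    rw [← map_natCast (IsLocalRing.residue A), IsLocalRing.residue_eq_zero_iff]; exact hpm)
  let k := AlgebraicClosure (IsLocalRing.ResidueField A)
  haveI : CharP k p :=
    charP_of_injective_algebraMap (algebraMap (IsLocalRing.ResidueField A) k).injective p
  obtain ⟨R, hR⟩ := exists_integral_rep A ρ
  let res : A →+* k := (algebraMap (IsLocalRing.ResidueField A) k).comp (IsLocalRing.residue A)
  let σ : G →* Module.End k (Fin d → k) :=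
    ((LinearMap.toMatrixAlgEquiv' (R := k) (n := Fin d)).symm.toMonoidHom).comp
      ((res.mapMatrix (m := Fin d)).toMonoidHom.comp R)
  have hker : ∀ g, σ g = 1 → ¬ p ∣ orderOf g → g = 1 := by
    intro g hg hnd
    have h1 : (R g).map res = 1 := by
      refine (LinearMap.toMatrixAlgEquiv' (R := k) (n := Fin d)).symm.injective ?_
      rw [map_one]; exact hg
    refine hρ g (hR g ?_)
    rw [← sub_eq_zero]
    refine eq_zero_of_one_add_pow (d := orderOf g) (fun i j => ?_) ?_ ?_
    · rw [← IsLocalRing.residue_eq_zero_iff]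
      refine (algebraMap (IsLocalRing.ResidueField A) k).injective ?_
      rw [map_zero]
      show res ((R g - 1) i j) = 0
      have := congrFun (congrFun h1 i) j
      rw [Matrix.map_apply] at this
      rw [Matrix.sub_apply, map_sub, this, Matrix.one_apply, Matrix.one_apply]
      split_ifs <;> simp
    · by_contra hu
      refine hnd ?_
      have h2 : ((orderOf g : ℕ) : IsLocalRing.ResidueField A) = 0 := by
        rw [← map_natCast (IsLocalRing.residue A), IsLocalRing.residue_eq_zero_iff]
        exact (IsLocalRing.mem_maximalIdeal _).mpr hu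
      exact (CharP.cast_eq_zero_iff (IsLocalRing.ResidueField A) p _).mp h2
    · rw [add_sub_cancel, ← map_pow, pow_orderOf_eq_one, map_one]
  refine ⟨k, inferInstance, inferInstance, inferInstance, σ, ?_⟩
  rw [← MonoidHom.ker_eq_bot_iff]
  set K := σ.ker
  have hK : IsPGroup p K := by
    intro ⟨g, hg⟩
    obtain ⟨a, m, hm, e⟩ := Nat.exists_eq_pow_mul_and_not_dvd (orderOf_pos g).ne' p hp.out.ne_one
    refine ⟨a, Subtype.ext ?_⟩
    show g ^ p ^ a = 1
    refine hker _ (by rw [map_pow, MonoidHom.mem_ker.mp hg, one_pow]) ?_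
    rw [orderOf_pow, e, Nat.gcd_mul_right_left, Nat.mul_div_cancel_left _ (pow_pos hp.out.pos a)]
    exact hm
  obtain ⟨e, he⟩ := IsPGroup.iff_card.mp hK
  rw [← Subgroup.card_eq_one, he]
  rcases Nat.lt_or_ge e 2 with h2 | h2
  · interval_cases e
    · exact pow_zero p
    · exact absurd (by rw [he, pow_one]) (hnn K inferInstance)
  · exact absurd ((pow_dvd_pow p h2).trans (he ▸ K.card_subgroup_dvd_card)) hsq

end Cfsg.Agent.Lib.HalfPSL
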