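/-
A three-dimensional representation with one block comes from a two-dimensional projective one.
-/
import Mathlib
import Cfsg.Agent.Lib.HalfPSL.Lift

set_option autoImplicit false
set_option linter.unusedSectionVars false
set_option linter.style.haveILetI false

namespace Cfsg.Agent.Lib.HalfPSL

open Matrix Finset Cfsg.Agent.Lib

variable {k : Type*} [Field k]

/-- The symmetric square of a two by two matrix. -/
def symSq (h : Matrix (Fin 2) (Fin 2) k) : Matrix (Fin 3) (Fin 3) k :=
  !![h 0 0 * h 0 0, 2 * h 0 0 * h 0 1, h 0 1 * h 0 1;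
     h 0 0 * h 1 0, h 0 0 * h 1 1 + h 0 1 * h 1 0, h 0 1 * h 1 1;
     h 1 0 * h 1 0, 2 * h 1 0 * h 1 1, h 1 1 * h 1 1]

theorem symSq_mul (a b : Matrix (Fin 2) (Fin 2) k) : symSq (a * b) = symSq a * symSq b := by
  ext i j
  fin_cases i <;> fin_cases j <;>
    simp [symSq, Matrix.mul_apply, Fin.sum_univ_two, Fin.sum_univ_three] <;> ring

theorem symSq_one : symSq (1 : Matrix (Fin 2) (Fin 2) k) = 1 := by
  ext i j
  fin_cases i <;> fin_cases j <;> simp [symSq]

/-- The normalised symmetric square. -/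
noncomputable def symSqHom : GL (Fin 2) k →* Matrix (Fin 3) (Fin 3) k where
  toFun h := ((h : Matrix (Fin 2) (Fin 2) k).det)⁻¹ • symSq (h : Matrix (Fin 2) (Fin 2) k)
  map_one' := by simp [symSq_one]
  map_mul' a b := by
    rw [Units.val_mul, det_mul, symSq_mul, smul_mul_smul_comm, _root_.mul_inv]

theorem symSqHom_apply (h : GL (Fin 2) k) :
    symSqHom h = ((h : Matrix (Fin 2) (Fin 2) k).det)⁻¹ • symSq (h : Matrix (Fin 2) (Fin 2) k) :=
  rfl

/-- The invariant form. -/
def formQ : Matrix (Fin 3) (Fin 3) k := !![0, 0, -1; 0, 2, 0; -1, 0, 0]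

theorem symSq_form (h : Matrix (Fin 2) (Fin 2) k) :
    (symSq h)ᵀ * formQ * symSq h = (h.det * h.det) • formQ := by
  ext i j
  fin_cases i <;> fin_cases j <;>
    simp [symSq, formQ, Matrix.mul_apply, Fin.sum_univ_three, det_fin_two] <;> ring

theorem symSqHom_form (h : GL (Fin 2) k) : (symSqHom h)ᵀ * formQ * symSqHom h = formQ := by
  have hd : (h : Matrix (Fin 2) (Fin 2) k).det ≠ 0 :=
    ((Matrix.isUnit_iff_isUnit_det _).mp h.isUnit).ne_zero
  rw [symSqHom_apply, transpose_smul, smul_mul_assoc, smul_mul_assoc, mul_smul_comm, symSq_form, smul_smul,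
    smul_smul]
  convert one_smul k (formQ (k := k)) using 2
  field_simp

theorem det_symSqHom (h : GL (Fin 2) k) : (symSqHom h).det = 1 := by
  have hd : (h : Matrix (Fin 2) (Fin 2) k).det ≠ 0 :=
    ((Matrix.isUnit_iff_isUnit_det _).mp h.isUnit).ne_zero
  have h1 : (symSq (h : Matrix (Fin 2) (Fin 2) k)).det =
      (h : Matrix (Fin 2) (Fin 2) k).det ^ 3 := by
    simp [symSq, det_fin_three, det_fin_two]; ring
  rw [symSqHom_apply, det_smul, h1, Fintype.card_fin]
  field_simp

theorem symSqHom_eq_one {h : GL (Fin 2) k} (h1 : symSqHom h = 1) :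
    h ∈ Subgroup.center (GL (Fin 2) k) := by
  have hd : (h : Matrix (Fin 2) (Fin 2) k).det ≠ 0 :=
    ((Matrix.isUnit_iff_isUnit_det _).mp h.isUnit).ne_zero
  have e : symSq (h : Matrix (Fin 2) (Fin 2) k) = (h : Matrix (Fin 2) (Fin 2) k).det • 1 := by
    rw [← h1, symSqHom_apply, smul_smul, mul_inv_cancel₀ hd, one_smul]
  have e02 := congrFun (congrFun e 0) 2
  have e20 := congrFun (congrFun e 2) 0
  have e00 := congrFun (congrFun e 0) 0
  simp [symSq] at e02 e20 e00
  rw [det_fin_two, e02, e20] at e00 hd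
  simp only [mul_zero, sub_zero] at e00 hd
  have e11 := mul_left_cancel₀ (left_ne_zero_of_mul hd) e00
  rw [GeneralLinearGroup.center_eq_range_scalar]
  refine ⟨Units.mk0 ((h : Matrix (Fin 2) (Fin 2) k) 0 0) (left_ne_zero_of_mul hd), Units.ext ?_⟩
  ext i j
  fin_cases i <;> fin_cases j <;> simp [e02, e20, ← e11]

/-- Every element preserving the form is a normalised symmetric square. -/
theorem exists_symSq (h2 : (2 : k) ≠ 0) {A : Matrix (Fin 3) (Fin 3) k}
    (hA : Aᵀ * formQ * A = formQ) (hd : A.det = 1) : ∃ h : GL (Fin 2) k, symSqHom h = A := by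
  -- an element with the same first column up to a factor
  obtain ⟨h1, l, hl⟩ : ∃ (h1 : GL (Fin 2) k) (l : k), ∀ i, A i 0 = l * symSqHom h1 i 0 := by
    have h00 := congrFun (congrFun hA 0) 0
    simp [formQ, Matrix.mul_apply, Fin.sum_univ_three] at h00
    have hb : A 1 0 * A 1 0 = A 0 0 * A 2 0 := mul_left_cancel₀ h2 (by linear_combination h00)
    by_cases ha : A 0 0 = 0
    · have hb0 : A 1 0 = 0 := mul_self_eq_zero.mp (by rw [hb, ha, zero_mul])
      refine ⟨GeneralLinearGroup.mkOfDetNeZero !![0, 1; -1, 0] (by simp [det_fin_two]), A 2 0,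
        fun i => ?_⟩
      fin_cases i <;> simp [symSqHom, symSq, det_fin_two, ha, hb0]
    · refine ⟨GeneralLinearGroup.mkOfDetNeZero !![1, 0; A 1 0 / A 0 0, 1] (by simp [det_fin_two]),
        A 0 0, fun i => ?_⟩
      fin_cases i <;> simp [symSqHom, symSq, det_fin_two]
      · field_simp
      · field_simp
        linear_combination -hb
  set B := symSqHom h1⁻¹ * A with hBdef
  have hB : Bᵀ * formQ * B = formQ := by
    rw [hBdef, transpose_mul, mul_assoc, mul_assoc, ← mul_assoc formQ, ← mul_assoc (symSqHom h1⁻¹)ᵀ,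
      ← mul_assoc (symSqHom h1⁻¹)ᵀ, symSqHom_form, ← mul_assoc, hA]
  have hBd : B.det = 1 := by rw [hBdef, det_mul, det_symSqHom, hd, one_mul]
  have hcol : ∀ i, B i 0 = l * (1 : Matrix (Fin 3) (Fin 3) k) i 0 := by
    intro i
    rw [← map_one (symSqHom (k := k)), ← inv_mul_cancel h1, map_mul, hBdef, Matrix.mul_apply,
      Matrix.mul_apply, mul_sum]
    exact sum_congr rfl fun j _ => by rw [hl]; ring
  have c10 : B 1 0 = 0 := by simpa using hcol 1
  have c20 : B 2 0 = 0 := by simpa using hcol 2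
  have h01 := congrFun (congrFun hB 0) 1
  have h02 := congrFun (congrFun hB 0) 2
  have h11 := congrFun (congrFun hB 1) 1
  have h12 := congrFun (congrFun hB 1) 2
  have h22 := congrFun (congrFun hB 2) 2
  simp [formQ, Matrix.mul_apply, Fin.sum_univ_three, c10, c20] at h01 h02 h11 h12 h22
  simp [det_fin_three, c10, c20] at hBd
  have hl0 : B 0 0 ≠ 0 := fun h => by simp [h] at hBd
  have c21 : B 2 1 = 0 := h01.resolve_left hl0
  have hz : B 0 0 * B 2 2 = 1 := h02
  rw [c21] at hBd h11 h12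
  have c11 : B 1 1 = 1 := by linear_combination hBd - (B 1 1) * hz
  rw [c11] at h12
  have e12 : 2 * B 1 2 = B 0 1 * B 2 2 := by linear_combination h12
  have e22 : B 1 2 * B 1 2 = B 0 2 * B 2 2 :=
    mul_left_cancel₀ h2 (by linear_combination h22)
  refine ⟨h1 * GeneralLinearGroup.mkOfDetNeZero !![B 0 0, B 0 1 / 2; 0, 1]
    (by simp [det_fin_two, hl0]), ?_⟩
  rw [map_mul]
  have hB2 : symSqHom (GeneralLinearGroup.mkOfDetNeZero !![B 0 0, B 0 1 / 2; 0, 1]
      (by simp [det_fin_two, hl0])) = B := by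
    have e22' : B 2 2 = (B 0 0)⁻¹ := eq_inv_of_mul_eq_one_right hz
    have e12' : B 1 2 = B 0 1 / 2 * (B 0 0)⁻¹ := by
      rw [← e22']; field_simp; linear_combination e12
    have e02' : B 0 2 = B 1 2 * B 1 2 * B 0 0 := by
      linear_combination (-(B 0 2)) * hz - (B 0 0) * e22
    ext i j
    fin_cases i <;> fin_cases j <;>
      simp [symSqHom, symSq, det_fin_two, c10, c20, c21, c11, e22', e12', e02'] <;> field_simp
  rw [hB2, hBdef, ← mul_assoc, ← map_mul, mul_inv_cancel, map_one, one_mul]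

variable {p : ℕ} [hp : Fact p.Prime] [CharP k p] {G : Type*} [Group G] [Finite G]

/-- A representation by matrices preserving a form gives a projective representation. -/
theorem exists_pgl_of_form (h2 : (2 : k) ≠ 0) (τ : G →* Matrix (Fin 3) (Fin 3) k)
    (hQ : ∀ g, (τ g)ᵀ * formQ * τ g = formQ) (hd : ∀ g, (τ g).det = 1) :
    ∃ Φ : G →* Matrix.ProjGenLinGroup (Fin 2) k, ∀ g, Φ g = 1 → τ g = 1 := by
  choose h hh using fun g => exists_symSq h2 (hQ g) (hd g)
  have key : ∀ a b : GL (Fin 2) k, symSqHom a = symSqHom b →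
      ProjGenLinGroup.mk a = ProjGenLinGroup.mk b := by
    intro a b e
    rw [← mul_inv_eq_one, ← map_inv, ← map_mul, ProjGenLinGroup.mk_eq_one]
    refine symSqHom_eq_one ?_
    rw [map_mul, e, ← map_mul, mul_inv_cancel, map_one]
  refine ⟨{ toFun := fun g => ProjGenLinGroup.mk (h g), map_one' := ?_, map_mul' := ?_ },
    fun g hg => ?_⟩
  · rw [key (h 1) 1 (by rw [hh, map_one, map_one]), map_one]
  · intro a b
    rw [← map_mul]
    exact key _ _ (by rw [hh, map_mul, map_mul, hh, hh])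
  · have hc : h g ∈ Subgroup.center (GL (Fin 2) k) := ProjGenLinGroup.mk_eq_one.mp hg
    rw [GeneralLinearGroup.center_eq_range_scalar] at hc
    obtain ⟨c, hc⟩ := hc
    have hc0 : (c : k) ≠ 0 := c.ne_zero
    rw [← hh g, ← hc]
    ext i j
    fin_cases i <;> fin_cases j <;> simp [symSqHom, symSq, det_fin_two] <;> field_simp

/-- A three-dimensional representation in which `x` has one block. -/
theorem exists_pgl_of_three {x : G} (hx : orderOf x = p) (hsq : ¬ p ^ 2 ∣ Nat.card G)
    (hgen : Subgroup.closure {y : G | ∃ g, y = g * x * g⁻¹} = ⊤) (hp7 : 7 ≤ p)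
    (τ : G →* Matrix (Fin 3) (Fin 3) k) (h3 : (τ x - 1) ^ 3 = 0) (h2' : (τ x - 1) ^ 2 ≠ 0) :
    ∃ Φ : G →* Matrix.ProjGenLinGroup (Fin 2) k, Φ x ≠ 1 := by
  classical
  have hnat : ∀ a : ℕ, 0 < a → a < p → (a : k) ≠ 0 := fun a ha hap h => by
    have := Nat.le_of_dvd ha ((CharP.cast_eq_zero_iff k p a).mp h); omega
  have h2 : (2 : k) ≠ 0 := by simpa using hnat 2 (by norm_num) (by omega)
  have h48 : (48 : k) ≠ 0 := by
    intro h
    have h' : ((48 : ℕ) : k) = 0 := by exact_mod_cast h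
    rw [CharP.cast_eq_zero_iff k p, show (48 : ℕ) = 2 ^ 4 * 3 by norm_num, hp.out.dvd_mul] at h'
    rcases h' with h' | h'
    · have := Nat.le_of_dvd (by norm_num) (hp.out.dvd_of_dvd_pow h'); omega
    · have := Nat.le_of_dvd (by norm_num) h'; omega
  -- the chain basis
  set N := τ x - 1 with hN
  obtain ⟨v, hv⟩ : ∃ v, (N ^ 2) *ᵥ v ≠ 0 := by
    by_contra h
    push Not at h
    exact h2' (Matrix.ext fun i j => by simpa using congrFun (h (Pi.single j 1)) i)
  set P : Matrix (Fin 3) (Fin 3) k :=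
    Matrix.of fun i j => (![(N ^ 2) *ᵥ v, N *ᵥ v, v] j) i with hP
  have hN3 : N *ᵥ ((N ^ 2) *ᵥ v) = 0 := by
    rw [mulVec_mulVec, ← pow_succ', h3, zero_mulVec]
  have hPd : IsUnit P.det := by
    rw [isUnit_iff_ne_zero]
    intro h0
    obtain ⟨c, hc, hPc⟩ := Matrix.exists_mulVec_eq_zero_iff.mpr h0
    have e : c 0 • (N ^ 2) *ᵥ v + c 1 • N *ᵥ v + c 2 • v = 0 := by
      rw [← hPc]; ext i; simp [hP, mulVec, dotProduct, Fin.sum_univ_three]; ring
    have e1 := congrArg (N *ᵥ ·) e
    simp only [mulVec_add, mulVec_smul, hN3, mulVec_zero, smul_zero, zero_add] at e1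
    rw [mulVec_mulVec, ← sq] at e1
    have e2 := congrArg (N *ᵥ ·) e1
    simp only [mulVec_add, mulVec_smul, hN3, mulVec_zero, smul_zero, zero_add] at e2
    rw [mulVec_mulVec, ← sq] at e2
    have c2 : c 2 = 0 := (smul_eq_zero.mp e2).resolve_right hv
    have c1 : c 1 = 0 := by simpa [c2, hv] using e1
    have c0 : c 0 = 0 := by simpa [c2, c1, hv] using e
    exact hc (funext fun i => by fin_cases i <;> assumption)
  set U : Matrix (Fin 3) (Fin 3) k := !![1, 1, 0; 0, 1, 1; 0, 0, 1] with hU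
  have hNP : N * P = P * (U - 1) := by
    ext i j
    have a0 := congrFun hN3 i
    have a2 : (N *ᵥ (N *ᵥ v)) i = ((N ^ 2) *ᵥ v) i := by rw [mulVec_mulVec, sq]
    simp only [Pi.zero_apply] at a0
    rw [Matrix.mul_apply, Matrix.mul_apply]
    have key : ∀ w : Fin 3 → k, ∑ l, N i l * w l = (N *ᵥ w) i := fun w => rfl
    fin_cases j <;> simp [hP, hU, Fin.sum_univ_three] <;>
      simp [mulVec, dotProduct, Fin.sum_univ_three] at a0 a2 <;>
      simp [mulVec, dotProduct, Fin.sum_univ_three, a0, a2]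
  have hUx : P⁻¹ * τ x * P = U := by
    rw [mul_assoc, show τ x = N + 1 by rw [hN, sub_add_cancel], add_mul, one_mul, hNP, mul_add,
      ← mul_assoc, nonsing_inv_mul _ hPd, one_mul, sub_add_cancel]
  let τ1 : G →* Matrix (Fin 3) (Fin 3) k :=
    { toFun := fun g => P⁻¹ * τ g * P
      map_one' := by rw [map_one, mul_one, nonsing_inv_mul _ hPd]
      map_mul' := fun a b => by
        rw [map_mul]
        simp only [mul_assoc]
        rw [← mul_assoc P P⁻¹, mul_nonsing_inv _ hPd, one_mul] }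
  have hdet : ∀ g, (τ1 g).det = 1 := by
    intro g
    have hmem : g ∈ Subgroup.closure {y : G | ∃ g, y = g * x * g⁻¹} := hgen ▸ Subgroup.mem_top g
    induction hmem using Subgroup.closure_induction with
    | mem y hy =>
      obtain ⟨c, rfl⟩ := hy
      rw [map_mul, map_mul, det_mul, det_mul, mul_right_comm, ← det_mul, ← map_mul, mul_inv_cancel,
        map_one, det_one, one_mul]
      show (P⁻¹ * τ x * P).det = 1
      rw [hUx, hU, det_fin_three]; simp
    | one => rw [map_one, det_one]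
    | mul a b _ _ ha hb => rw [map_mul, det_mul, ha, hb, one_mul]
    | inv a _ ha =>
      have := congrArg Matrix.det (map_mul τ1 a a⁻¹)
      rw [mul_inv_cancel, map_one, det_one, det_mul, ha, one_mul] at this
      exact this.symm
  -- the action on forms
  set V := τ1 x⁻¹ with hV
  have hVU : U * V = 1 := by
    rw [show U = τ1 x from hUx.symm, hV, ← map_mul, mul_inv_cancel, map_one]
  have hV' : V = !![1, -1, 1; 0, 1, -1; 0, 0, 1] := by
    refine (Matrix.inv_eq_right_inv hVU).symm.trans (Matrix.inv_eq_right_inv ?_)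
    ext i j
    fin_cases i <;> fin_cases j <;> simp [hU, Matrix.mul_apply, Fin.sum_univ_three]
  let σ : G →* Module.End k (Matrix (Fin 3) (Fin 3) k) :=
    { toFun := fun g => LinearMap.mulLeft k (τ1 g⁻¹)ᵀ * LinearMap.mulRight k (τ1 g⁻¹)
      map_one' := LinearMap.ext fun S => by simp
      map_mul' := fun a b => LinearMap.ext fun S => by
        simp [mul_assoc] }
  have hσ : ∀ g S, σ g S = (τ1 g⁻¹)ᵀ * S * τ1 g⁻¹ := fun g S => by
    simp [σ, mul_assoc]
  have hV3 : (V - 1) ^ 3 = 0 := by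
    rw [hV', pow_succ, sq]
    ext i j
    fin_cases i <;> fin_cases j <;> simp [Matrix.mul_apply, Fin.sum_univ_three]
  have hT : (σ x - 1) ^ (p - 1) = 0 := by
    have hLR : ∀ A B : Matrix (Fin 3) (Fin 3) k,
        Commute (LinearMap.mulLeft k A) (LinearMap.mulRight k B) := fun A B =>
      LinearMap.ext fun S => by simp [mul_assoc]
    have e : σ x - 1 = LinearMap.mulLeft k (Vᵀ - 1) * LinearMap.mulRight k V +
        LinearMap.mulRight k (V - 1) := LinearMap.ext fun S => by
      simp [σ, hV, mul_sub, sub_mul]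
    have hVV : Commute (LinearMap.mulRight k V : Module.End k (Matrix (Fin 3) (Fin 3) k))
        (LinearMap.mulRight k (V - 1)) := LinearMap.ext fun S => by
      simp [mul_assoc, mul_sub, sub_mul]
    refine pow_eq_zero_of_le (show 5 ≤ p - 1 by omega) ?_
    rw [e]
    refine Commute.add_pow_eq_zero_of_add_le_succ_of_pow_eq_zero (m := 3) (n := 3)
      (((hLR _ _)).mul_left hVV) ?_ ?_ le_rfl
    · rw [(hLR _ _).mul_pow, LinearMap.pow_mulLeft, LinearMap.pow_mulRight,
        ← transpose_one, ← transpose_sub, ← transpose_pow, hV3, transpose_zero,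
        LinearMap.mulLeft_zero_eq_zero, zero_mul]
    · rw [LinearMap.pow_mulRight, hV3, LinearMap.mulRight_zero_eq_zero]
  set f0 : Matrix (Fin 3) (Fin 3) k := !![0, 0, -2; 0, 2, -1; -2, -1, 0] with hf0
  set L : Matrix (Fin 3) (Fin 3) k := !![1, -2, -4; -2, 4, 0; -4, 0, 0] with hL
  have hfix : σ x f0 = f0 := by
    rw [hσ, ← hV, hV', hf0]
    ext i j
    fin_cases i <;> fin_cases j <;> simp [Matrix.mul_apply, Fin.sum_univ_three] <;> ring
  obtain ⟨w, hw, S, hS⟩ := fixed_congr hx hsq hgen hT hfix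
  have hVL : V * L * Vᵀ = L := by
    rw [hV', hL]
    ext i j
    fin_cases i <;> fin_cases j <;> simp [Matrix.mul_apply, Fin.sum_univ_three] <;> ring
  have htr : Matrix.trace (w * L) = Matrix.trace (f0 * L) := by
    rw [← sub_eq_zero, ← trace_sub, ← sub_mul, ← hS]
    show Matrix.trace ((σ x S - S) * L) = 0
    rw [hσ, ← hV, sub_mul, trace_sub, mul_assoc Vᵀ, mul_assoc Vᵀ, Matrix.trace_mul_comm Vᵀ,
      mul_assoc S, mul_assoc S, hVL, sub_self]
  -- the symmetrised form
  set s := w + wᵀ with hs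
  have hsym : ∀ i j, s i j = s j i := fun i j => by simp [hs, add_comm]
  have hinv : ∀ g, (τ1 g)ᵀ * s * τ1 g = s := by
    intro g
    have h1 := hw g⁻¹
    rw [hσ, inv_inv] at h1
    have h2 := congrArg transpose h1
    rw [transpose_mul, transpose_mul, transpose_transpose, ← mul_assoc] at h2
    rw [hs, mul_add, add_mul, h1, h2]
  have hUs := hinv x
  rw [show τ1 x = U from hUx, hU] at hUs
  have e01 := congrFun (congrFun hUs 0) 1
  have e02 := congrFun (congrFun hUs 0) 2
  have e12 := congrFun (congrFun hUs 1) 2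
  have e22 := congrFun (congrFun hUs 2) 2
  simp [Matrix.mul_apply, Fin.sum_univ_three] at e01 e02 e12 e22
  simp only [hsym 1 0, hsym 2 0, hsym 2 1] at e01 e02 e12 e22
  have s00 : s 0 0 = 0 := by linear_combination e01
  have s01 : s 0 1 = 0 := by linear_combination e02
  have s02 : s 0 2 = -s 1 1 := by linear_combination e12 - s01
  have htr' : s 0 0 - 4 * s 0 1 - 8 * s 0 2 + 4 * s 1 1 = 48 := by
    have h1 : Matrix.trace (f0 * L) = 24 := by
      simp [hf0, hL, trace_fin_three, Matrix.mul_apply, Fin.sum_univ_three]; norm_num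
    have h2 := htr.trans h1
    simp [hL, trace_fin_three, Matrix.mul_apply, Fin.sum_univ_three] at h2
    simp only [hs, Matrix.add_apply, Matrix.transpose_apply]
    linear_combination 2 * h2
  have s11 : s 1 1 = 4 := by
    refine mul_left_cancel₀ (show (12 : k) ≠ 0 from fun h => h48 (by linear_combination 4 * h)) ?_
    linear_combination htr' - s00 + 4 * s01 + 8 * s02
  have s02' : s 0 2 = -4 := by rw [s02, s11]
  have s12 : s 1 2 = -2 := mul_left_cancel₀ h2 (by linear_combination e22 - s11)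
  -- the change of basis
  set R : Matrix (Fin 3) (Fin 3) k := !![1 / 2, -1 / 2, s 2 2 / 8; 0, 1, 0; 0, 0, 1] with hR
  have h8 : (8 : k) ≠ 0 := fun h => h48 (by linear_combination 6 * h)
  have hRd : IsUnit R.det := by
    rw [isUnit_iff_ne_zero, hR, det_fin_three]; simp [h2]
  have hRs : Rᵀ * s * R = (2 : k) • formQ := by
    ext i j
    fin_cases i <;> fin_cases j <;>
      simp [hR, formQ, Matrix.mul_apply, Fin.sum_univ_three, hsym 1 0, hsym 2 0, hsym 2 1, s00,
        s01, s02', s11, s12] <;> field_simp <;> ring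
  let τ2 : G →* Matrix (Fin 3) (Fin 3) k :=
    { toFun := fun g => R⁻¹ * τ1 g * R
      map_one' := by rw [map_one, mul_one, nonsing_inv_mul _ hRd]
      map_mul' := fun a b => by
        rw [map_mul]
        simp only [mul_assoc]
        rw [← mul_assoc R R⁻¹, mul_nonsing_inv _ hRd, one_mul] }
  have hQ2 : ∀ g, (τ2 g)ᵀ * formQ * τ2 g = formQ := by
    intro g
    refine smul_right_injective _ h2 ?_
    show (2 : k) • ((R⁻¹ * τ1 g * R)ᵀ * formQ * (R⁻¹ * τ1 g * R)) = (2 : k) • formQ
    rw [← smul_mul_assoc, ← mul_smul_comm, ← hRs, transpose_mul, transpose_mul]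
    simp only [mul_assoc]
    rw [← mul_assoc (R⁻¹)ᵀ, ← transpose_mul, mul_nonsing_inv _ hRd, transpose_one, one_mul,
      ← mul_assoc R R⁻¹, mul_nonsing_inv _ hRd, one_mul, ← mul_assoc s, ← mul_assoc (τ1 g)ᵀ,
      ← mul_assoc (τ1 g)ᵀ, hinv g]
  have hd2 : ∀ g, (τ2 g).det = 1 := by
    intro g
    show (R⁻¹ * τ1 g * R).det = 1
    rw [det_mul, det_mul, hdet, mul_one, ← det_mul, nonsing_inv_mul _ hRd, det_one]
  obtain ⟨Φ, hΦ⟩ := exists_pgl_of_form h2 τ2 hQ2 hd2
  refine ⟨Φ, fun h => h2' ?_⟩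
  have h1 : R⁻¹ * τ1 x * R = 1 := hΦ x h
  have h4 : τ1 x = 1 := by
    have := congrArg (fun A => R * A * R⁻¹) h1
    simpa [mul_assoc, mul_nonsing_inv _ hRd, ← mul_assoc R R⁻¹] using this
  have h5 : τ x = 1 := by
    have := congrArg (fun A => P * A * P⁻¹) (show P⁻¹ * τ x * P = 1 from h4)
    simpa [mul_assoc, mul_nonsing_inv _ hPd, ← mul_assoc P P⁻¹] using this
  rw [hN, h5, sub_self, zero_pow two_ne_zero]

end Cfsg.Agent.Lib.HalfPSL
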