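/-
A perfect group with a small module in characteristic `p` has a quotient `PSL₂(p)`.
-/
import Mathlib
import Cfsg.Agent.Lib.HalfPSL.Adjoint
import Cfsg.Agent.Lib.HalfPSL.Sym2
import Cfsg.Agent.Lib.HalfPSL.Dickson

set_option autoImplicit false
set_option linter.unusedSectionVars false
set_option linter.style.haveILetI false

namespace Cfsg.Agent.Lib.HalfPSL

open Module Subgroup Cfsg.Agent.Lib

universe v

variable {k : Type*} [Field k] {p : ℕ} [hp : Fact p.Prime] [CharP k p] {H : Type*} [Group H]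
  [Finite H] {x : H}

theorem ker_eq_top_of_gen (hgen : Subgroup.closure {y : H | ∃ g, y = g * x * g⁻¹} = ⊤)
    (K : Subgroup H) [hK : K.Normal] (hx : x ∈ K) : K = ⊤ := by
  rw [eq_top_iff, ← hgen, closure_le]
  rintro _ ⟨g, rfl⟩
  exact hK.conj_mem _ hx g

variable [IsAlgClosed k]

/-- The irreducible case. -/
theorem exists_pgl_of_irreducible (hp5 : 5 ≤ p) (hH : commutator H = ⊤) (hx : orderOf x = p)
    (hsq : ¬ p ^ 2 ∣ Nat.card H) (hgen : Subgroup.closure {y : H | ∃ g, y = g * x * g⁻¹} = ⊤)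
    {W : Type v} [AddCommGroup W] [Module k W] [FiniteDimensional k W] [Nontrivial W]
    (σ : H →* Module.End k W) (hm : 2 * finrank k W < p)
    (hirr : ∀ U : Submodule k W, (∀ g, ∀ u ∈ U, σ g u ∈ U) → U = ⊥ ∨ U = ⊤) (hσ : σ x ≠ 1) :
    ∃ Φ : H →* Matrix.ProjGenLinGroup (Fin 2) k, Φ x ≠ 1 := by
  classical
  obtain ⟨hs, hscal⟩ := single_and_scalar σ hx hsq hgen hirr hm
  have hm2 : 2 ≤ finrank k W := by
    by_contra hcon
    have h1 : finrank k W = 1 := by have := finrank_pos (R := k) (M := W); omega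
    refine hσ (map_eq_one_of_range_comm hH σ.toHomUnits (fun a b => ?_) x |> congrArg Units.val)
    refine Units.ext (LinearMap.ext fun w => ?_)
    obtain ⟨e, he⟩ := finrank_eq_one_iff'.mp h1
    obtain ⟨ca, hca⟩ := he.2 (σ a e)
    obtain ⟨cb, hcb⟩ := he.2 (σ b e)
    obtain ⟨cw, hcw⟩ := he.2 w
    show σ a (σ b w) = σ b (σ a w)
    rw [← hcw]
    simp only [map_smul, ← hca, ← hcb]
    rw [smul_comm ca cb]
  obtain ⟨S, hS⟩ := DefectOne.exists_localData hx hsq
  have hscalV : ∀ v ∈ S.V, ∃ c : k, σ v = c • 1 := fun v hv =>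
    hscal v (hS ▸ (S.commute v hv).symm) fun h =>
      S.coprime (h.trans (Subgroup.orderOf_dvd_natCard _ hv))
  rcases eq_or_lt_of_le hm2 with h2 | h3
  · let B : Basis (Fin 2) k W := Module.finBasisOfFinrankEq k W h2.symm
    let μ : H →* Matrix (Fin 2) (Fin 2) k :=
      (LinearMap.toMatrixAlgEquiv B).toAlgHom.toRingHom.toMonoidHom.comp σ
    refine ⟨Matrix.ProjGenLinGroup.mk.comp μ.toHomUnits, fun h => ?_⟩
    rw [MonoidHom.comp_apply, Matrix.ProjGenLinGroup.mk_eq_one,
      Matrix.GeneralLinearGroup.center_eq_range_scalar] at h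
    obtain ⟨c, hc⟩ := h
    have e : σ x = (c : k) • 1 := by
      apply (LinearMap.toMatrixAlgEquiv B).injective
      rw [map_smul, map_one]
      have h1 : LinearMap.toMatrixAlgEquiv B (σ x) = (μ.toHomUnits x).val := rfl
      rw [h1, ← hc]
      ext i j
      fin_cases i <;> fin_cases j <;> simp
    have hT := T_pow_finrank σ hx
    rw [e, show ((c : k) • (1 : Module.End k W) - 1) = ((c : k) - 1) • 1 by rw [sub_smul, one_smul],
      smul_pow, one_pow, smul_eq_zero] at hT
    rcases hT with hT | hT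
    · apply hσ
      rw [e, show (c : k) = 1 from sub_eq_zero.mp (eq_zero_of_pow_eq_zero hT), one_smul]
    · exact one_ne_zero hT
  · have hp7 : 7 ≤ p := by omega
    obtain ⟨τ, hτ3, hτ2⟩ := exists_three σ S hsq (hS ▸ hs) hscalV hm2 hm
    rw [hS] at hτ3 hτ2
    exact exists_pgl_of_three hx hsq hgen hp7 τ hτ3 hτ2

theorem exists_quot_of_module_aux (hp5 : 5 ≤ p) (hH : commutator H = ⊤) (hx : orderOf x = p)
    (hsq : ¬ p ^ 2 ∣ Nat.card H) (hgen : Subgroup.closure {y : H | ∃ g, y = g * x * g⁻¹} = ⊤)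
    (m : ℕ) : ∀ (W : Type v) [AddCommGroup W] [Module k W] [FiniteDimensional k W]
      (σ : H →* Module.End k W), finrank k W = m → 2 * m < p → σ x ≠ 1 →
      ∃ Φ : H →* Matrix.ProjGenLinGroup (Fin 2) k, Φ x ≠ 1 := by
  induction m using Nat.strong_induction_on with
  | _ m ih =>
  intro W _ _ _ σ hm hmp hσ
  haveI : Nontrivial W := by
    by_contra h
    rw [not_nontrivial_iff_subsingleton] at h
    exact hσ (Subsingleton.elim _ _)
  by_cases hsub : ∃ U : Submodule k W, (∀ g, ∀ u ∈ U, σ g u ∈ U) ∧ U ≠ ⊥ ∧ U ≠ ⊤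
  · obtain ⟨U, hU, hb, ht⟩ := hsub
    have hlt : finrank k U < m := hm ▸ Submodule.finrank_lt ht
    have hlt' : finrank k (W ⧸ U) < m := by
      have h1 := Submodule.finrank_quotient_add_finrank U
      have h2 : 0 < finrank k U := Nat.pos_of_ne_zero fun h => hb (Submodule.finrank_eq_zero.mp h)
      omega
    by_cases h1 : subRep σ U hU x = 1
    · by_cases h2 : quotRep σ U hU x = 1
      · exfalso
        have htriv : ∀ g, subRep σ U hU g = 1 ∧ quotRep σ U hU g = 1 := by
          intro g
          have e1 := ker_eq_top_of_gen hgen (subRep σ U hU).ker (MonoidHom.mem_ker.mpr h1)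
          have e2 := ker_eq_top_of_gen hgen (quotRep σ U hU).ker (MonoidHom.mem_ker.mpr h2)
          exact ⟨MonoidHom.mem_ker.mp (e1 ▸ Subgroup.mem_top g),
            MonoidHom.mem_ker.mp (e2 ▸ Subgroup.mem_top g)⟩
        have hd : ∀ g w, σ g w - w ∈ U := fun g w => by
          have := LinearMap.congr_fun (htriv g).2 (Submodule.Quotient.mk w)
          exact (Submodule.Quotient.eq U).mp this
        have hfix : ∀ g, ∀ u ∈ U, σ g u = u := fun g u hu =>
          congrArg Subtype.val (LinearMap.congr_fun (htriv g).1 ⟨u, hu⟩)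
        let δ : H →* Multiplicative (Module.End k W) :=
          { toFun := fun g => Multiplicative.ofAdd (σ g - 1)
            map_one' := by rw [map_one, sub_self, ofAdd_zero]
            map_mul' := fun a b => by
              rw [← ofAdd_add]
              congr 1
              refine LinearMap.ext fun w => ?_
              rw [map_mul]
              simp only [LinearMap.sub_apply, LinearMap.add_apply, Module.End.mul_apply,
                Module.End.one_apply]
              have h3 := hfix a _ (hd b w)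
              rw [map_sub] at h3
              rw [← h3]; abel }
        have := congrArg Multiplicative.toAdd (map_eq_one_of_perfect hH δ x)
        exact hσ (sub_eq_zero.mp this)
      · exact ih _ hlt' (W ⧸ U) (quotRep σ U hU) rfl (by omega) h2
    · exact ih _ hlt U (subRep σ U hU) rfl (by omega) h1
  · push Not at hsub
    refine exists_pgl_of_irreducible hp5 hH hx hsq hgen σ (hm ▸ hmp) (fun U hU => ?_) hσ
    by_cases hb : U = ⊥
    · exact Or.inl hb
    · exact Or.inr (hsub U hU hb)

/-- A perfect group with a small module has a quotient `PSL₂(p)`. -/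
theorem exists_quot_of_module (hp5 : 5 ≤ p) (hH : commutator H = ⊤) (hx : orderOf x = p)
    (hsq : ¬ p ^ 2 ∣ Nat.card H) (hgen : Subgroup.closure {y : H | ∃ g, y = g * x * g⁻¹} = ⊤)
    {W : Type v} [AddCommGroup W] [Module k W] [FiniteDimensional k W]
    (σ : H →* Module.End k W) (hm : 2 * finrank k W < p) (hσ : σ x ≠ 1) :
    ∃ K : Subgroup H, ∃ _ : K.Normal, x ∉ K ∧
      Nonempty (H ⧸ K ≃* Cfsg.Agent.Lib.SL2.PSLtwo (ZMod p)) := by
  obtain ⟨Φ, hΦ⟩ := exists_quot_of_module_aux hp5 hH hx hsq hgen _ W σ rfl hm hσ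
  exact exists_quot_psl hp5 hH hsq hx hgen Φ hΦ

end Cfsg.Agent.Lib.HalfPSL
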