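/-
Groups with a faithful character of degree `(p - 1) / 2`.
-/
import Mathlib
import Cfsg.Agent.Lib.HalfPSL.Small
import Cfsg.Agent.Lib.HalfPSL.PSLFacts
import Cfsg.Agent.Lib.HalfPSL.Reduce
import Cfsg.Agent.Lib.DefectOne.SmallTheorem
import Cfsg.Agent.Lib.Chars.Completeness

set_option autoImplicit false
set_option linter.unusedSectionVars false
set_option linter.style.haveILetI false

namespace Cfsg.Agent.Lib.HalfPSL

open Cfsg Cfsg.Agent.Lib Subgroup Module
open scoped Pointwise

universe u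

variable {G : Type u} [Group G] [Finite G] {p : ℕ} [hp : Fact p.Prime]

/-- A normal subgroup of order prime to `p` of a group with a small faithful module is central. -/
theorem le_center_of_not_dvd {k : Type*} [Field k] [IsAlgClosed k] [CharP k p] {x : G}
    (hx : orderOf x = p) (hsq : ¬ p ^ 2 ∣ Nat.card G)
    (hgen : Subgroup.closure {y : G | ∃ g, y = g * x * g⁻¹} = ⊤) {W : Type*} [AddCommGroup W]
    [Module k W] [FiniteDimensional k W] (σ : G →* Module.End k W) (hσ : Function.Injective σ)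
    (hm : 2 * finrank k W < p) (K : Subgroup G) [K.Normal] (hK : ¬ p ∣ Nat.card K) :
    K ≤ center G := by
  intro a ha
  rw [mem_center_iff]
  intro g
  set c := a * g * a⁻¹ * g⁻¹ with hc
  have hcK : c ∈ K := by
    rw [hc, show a * g * a⁻¹ * g⁻¹ = a * (g * a⁻¹ * g⁻¹) by group]
    exact mul_mem ha (Subgroup.Normal.conj_mem ‹_› _ (inv_mem ha) g)
  have h1 := nilpotent_comm_normal K hK hx hsq hgen _ W σ rfl hm a ha g
  have h2 : σ c = 1 := eq_one_of_nilpotent_sub_one (p := p) h1
    (fun h => hK (h.trans (Subgroup.orderOf_dvd_natCard _ hcK)))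
    (by rw [← map_pow, pow_orderOf_eq_one, map_one])
  have h3 : c = 1 := hσ (h2.trans (map_one σ).symm)
  rw [hc, mul_inv_eq_one, mul_inv_eq_iff_eq_mul] at h3
  exact h3.symm

/-- A commutator map into the centre of a perfect group is trivial. -/
theorem commute_of_comm_central {H : Subgroup G} [hHn : H.Normal] (hH : commutator H = ⊤) {a : G}
    (ha : ∀ h : H, (⟨a * (h : G) * a⁻¹, hHn.conj_mem _ h.2 a⟩ : H) * h⁻¹ ∈ center H) (h : H) :
    Commute a h := by
  let f : H →* center H :=
    { toFun := fun h => ⟨_, ha h⟩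
      map_one' := Subtype.ext (Subtype.ext (by simp))
      map_mul' := fun s t => by
        refine Subtype.ext (Subtype.ext ?_)
        have hc := congrArg Subtype.val (mem_center_iff.mp (ha t) s)
        simp only [Subgroup.coe_mul, Subgroup.coe_inv] at hc ⊢
        calc a * ((s : G) * t) * a⁻¹ * ((s : G) * t)⁻¹
            = a * (s : G) * a⁻¹ * (a * (t : G) * a⁻¹ * (t : G)⁻¹) * (s : G)⁻¹ := by group
          _ = a * (s : G) * a⁻¹ * (s : G)⁻¹ * ((s : G) * (a * (t : G) * a⁻¹ * (t : G)⁻¹)) * (s : G)⁻¹ := by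
            group
          _ = _ := by rw [hc]; group }
  have h1 := map_eq_one_of_range_comm hH f (fun s t => Subtype.ext
    (mem_center_iff.mp (f t).2 (f s : H))) h
  have h2 : a * (h : G) * a⁻¹ * (h : G)⁻¹ = 1 := congrArg (fun z : center H => ((z : H) : G)) h1
  rw [mul_inv_eq_one, mul_inv_eq_iff_eq_mul] at h2
  exact h2

/-- Commutation with the small constituent: the only constituent is irreducible. -/
theorem mem_center_of_commute {H : Subgroup G} {x : H} (hH : commutator H = ⊤)
    (hx : orderOf x = p) (hsq : ¬ p ^ 2 ∣ Nat.card H)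
    (hgen : Subgroup.closure {y : H | ∃ g, y = g * x * g⁻¹} = ⊤) {n : ℕ} (hn : 2 * n + 1 = p)
    (ρ : Representation ℂ G (Fin n → ℂ)) (hρ : ∀ g, ρ g = 1 → g = 1) {c : G}
    (hc : ∀ h : H, Commute c h) : c ∈ center G := by
  classical
  haveI : Fintype H := Fintype.ofFinite H
  let ρH : Representation ℂ H (Fin n → ℂ) := ρ.comp H.subtype
  obtain ⟨a, ha⟩ := Chars.isCharacter_exists_nat_decomp (Chars.isCharacter_of_rep ρH)
  have hx1 : x ≠ 1 := fun h => by
    rw [h, orderOf_one] at hx; exact hp.out.ne_one hx.symm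
  have hval : ∀ g, ρH.character g = ∑ ψ : IrrCharacter H, (a ψ : ℂ) * (ψ : H → ℂ) g := fun g => by
    rw [ha]; simp
  obtain ⟨ψ, hψa, hψx⟩ : ∃ ψ : IrrCharacter H, a ψ ≠ 0 ∧ (ψ : H → ℂ) x ≠ (ψ : H → ℂ) 1 := by
    by_contra h
    push Not at h
    refine hx1 (Subtype.ext (hρ x ?_))
    refine (Chars.rep_eq_one_iff ρH x).mpr ?_
    rw [hval, hval]
    refine Finset.sum_congr rfl fun ψ _ => ?_
    rcases eq_or_ne (a ψ) 0 with h0 | h0
    · simp [h0]
    · rw [h ψ h0]
  have hdeg : n = ∑ ξ : IrrCharacter H, a ξ * charDegree (ξ : H → ℂ) := by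
    apply Nat.cast_injective (R := ℂ)
    push_cast
    have h1 := hval 1
    rw [Representation.char_one, Module.finrank_pi, Fintype.card_fin] at h1
    rw [h1]
    exact Finset.sum_congr rfl fun ξ _ => by rw [(Chars.charDegree_spec ξ).2]
  have hle := Finset.single_le_sum (f := fun ξ => a ξ * charDegree (ξ : H → ℂ))
    (fun _ _ => Nat.zero_le _) (Finset.mem_univ ψ)
  rw [← hdeg] at hle
  -- a small constituent is trivial
  have hbig : n ≤ charDegree (ψ : H → ℂ) := by
    by_contra hlt
    obtain ⟨K, hKn, hK⟩ := DefectOne.exists_kernel (Chars.irr_isCharacter ψ)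
    haveI := hKn
    have hxK : x ∉ K := fun h => hψx ((hK x).mp h)
    obtain ⟨ψ', hψ'⟩ := Chars.exists_irr_quotient K ψ fun b hb => (hK b).mp hb
    have hx' : orderOf (x : H ⧸ K) = p := orderOf_eq_prime
      (by rw [← QuotientGroup.mk_pow, ← hx, pow_orderOf_eq_one, QuotientGroup.mk_one])
      (by rwa [Ne, QuotientGroup.eq_one_iff])
    have hnorm := DefectOne.normalizes_aux p (Nat.card (H ⧸ K)) (H ⧸ K) le_rfl (ψ' : H ⧸ K → ℂ)
      (charDegree (ψ : H → ℂ)) (Chars.irr_isCharacter ψ')
      (by rw [← QuotientGroup.mk_one, hψ' 1, (Chars.charDegree_spec ψ).2]) (by omega)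
      (fun q hq => by
        obtain ⟨b, rfl⟩ := QuotientGroup.mk_surjective q
        rw [← QuotientGroup.mk_one, hψ', hψ'] at hq
        exact (QuotientGroup.eq_one_iff b).mpr ((hK b).mpr hq))
      (x : H ⧸ K) hx' (fun h => hsq (h.trans K.card_quotient_dvd_card))
    have hmem : ∀ h : H, (QuotientGroup.mk' K h) ∈ zpowers (x : H ⧸ K) := by
      intro h
      have hh : h ∈ Subgroup.closure {y : H | ∃ g, y = g * x * g⁻¹} := hgen ▸ Subgroup.mem_top h
      refine (closure_le ((zpowers (x : H ⧸ K)).comap (QuotientGroup.mk' K))).mpr ?_ hh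
      rintro _ ⟨g, rfl⟩
      exact hnorm (g : H ⧸ K)
    have h1 := map_eq_one_of_range_comm hH (QuotientGroup.mk' K) (fun s t => by
      obtain ⟨i, hi⟩ := mem_zpowers_iff.mp (hmem s)
      obtain ⟨j, hj⟩ := mem_zpowers_iff.mp (hmem t)
      rw [← hi, ← hj, ← zpow_add, ← zpow_add, add_comm]) x
    exact hxK ((QuotientGroup.eq_one_iff x).mp h1)
  have hd0 : 0 < charDegree (ψ : H → ℂ) := (Chars.charDegree_spec ψ).1
  have hn0 : 0 < n := by
    have := hp.out.two_le; omega
  have ha1 : a ψ = 1 := by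
    have h1 : a ψ * n ≤ 1 * n := by
      rw [one_mul]; exact (Nat.mul_le_mul_left _ hbig).trans hle
    have := Nat.le_of_mul_le_mul_right h1 hn0
    omega
  have hrest : ∀ ξ, ξ ≠ ψ → a ξ = 0 := by
    intro ξ hξ
    by_contra h0
    have h2 := Finset.add_le_sum (f := fun ξ => a ξ * charDegree (ξ : H → ℂ))
      (fun _ _ => Nat.zero_le _) (Finset.mem_univ ψ) (Finset.mem_univ ξ) (Ne.symm hξ)
    rw [← hdeg, ha1, one_mul] at h2
    have h3 : 0 < a ξ * charDegree (ξ : H → ℂ) :=
      Nat.mul_pos (Nat.pos_of_ne_zero h0) (Chars.charDegree_spec ξ).1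
    omega
  have hnorm1 : classInner ρH.character ρH.character = 1 := by
    have e : ρH.character = (ψ : H → ℂ) := by
      funext g
      rw [hval, Finset.sum_eq_single ψ (fun ξ _ hξ => by simp [hrest ξ hξ]) (by simp), ha1,
        Nat.cast_one, one_mul]
    rw [e]
    exact Chars.classInner_irr_self ψ
  rw [Chars.classInner_char_eq_finrank, Nat.cast_eq_one] at hnorm1
  -- scalars
  let T : Representation.IntertwiningMap ρH ρH := ⟨ρ c, fun h => by
    show ρ c ∘ₗ ρ (h : G) = ρ (h : G) ∘ₗ ρ c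
    rw [← Module.End.mul_eq_comp, ← Module.End.mul_eq_comp, ← map_mul, ← map_mul, (hc h).eq]⟩
  let I : Representation.IntertwiningMap ρH ρH := ⟨1, fun h => rfl⟩
  have hI : I ≠ 0 := by
    intro h
    haveI : Nonempty (Fin n) := ⟨⟨0, hn0⟩⟩
    have := congrArg (fun φ : Representation.IntertwiningMap ρH ρH => φ (fun _ => (1 : ℂ))) h
    exact one_ne_zero (congrFun this ⟨0, hn0⟩)
  obtain ⟨t, ht⟩ := exists_smul_eq_of_finrank_eq_one hnorm1 hI T
  have hsc : ρ c = t • 1 := LinearMap.ext fun w =>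
    (congrArg (fun φ : Representation.IntertwiningMap ρH ρH => φ w) ht).symm
  refine mem_center_iff.mpr fun g => ?_
  have h1 : ρ (g * c * g⁻¹ * c⁻¹) = 1 := by
    have hinv : ρ g * ρ g⁻¹ = 1 := by rw [← map_mul, mul_inv_cancel, map_one]
    rw [map_mul, map_mul, map_mul, hsc, mul_smul_comm, mul_one, smul_mul_assoc, hinv, ← hsc,
      ← map_mul, mul_inv_cancel, map_one]
  have h2 := hρ _ h1
  rw [mul_inv_eq_one, mul_inv_eq_iff_eq_mul] at h2
  exact h2

/-- Not all nontrivial powers of `x` can be conjugate. -/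
theorem exists_not_fused {n : ℕ} (hn : 2 * n + 1 = p) (ρ : Representation ℂ G (Fin n → ℂ))
    (hρ : ∀ g, ρ g = 1 → g = 1) {x : G} (hx : orderOf x = p) :
    ∃ b : (ZMod p)ˣ, ∀ g : G, g * x * g⁻¹ ≠ x ^ (b : ZMod p).val := by
  classical
  by_contra hall
  push Not at hall
  have hp2 := hp.out.two_le
  have hconst : ∀ i ∈ Finset.range p, i ≠ 0 → ρ.character (x ^ i) = ρ.character x := by
    intro i hi hi0
    have hi' : (i : ZMod p) ≠ 0 := fun h => hi0 (Nat.eq_zero_of_dvd_of_lt
      ((ZMod.natCast_eq_zero_iff i p).mp h) (Finset.mem_range.mp hi)) -- nonzero residue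
    obtain ⟨g, hg⟩ := hall (Units.mk0 _ hi')
    rw [Units.val_mk0, ZMod.val_natCast, Nat.mod_eq_of_lt (Finset.mem_range.mp hi)] at hg
    rw [← hg, Representation.char_conj]
  let E : Module.End ℂ (Fin n → ℂ) := (p : ℂ)⁻¹ • ∑ i ∈ Finset.range p, ρ x ^ i
  have hp0 : (p : ℂ) ≠ 0 := Nat.cast_ne_zero.mpr hp.out.ne_zero
  have hxp : ρ x ^ p = 1 := by rw [← map_pow, ← hx, pow_orderOf_eq_one, map_one]
  have hmul : ρ x * ∑ i ∈ Finset.range p, ρ x ^ i = ∑ i ∈ Finset.range p, ρ x ^ i := by
    have h1 := mul_geom_sum (ρ x) p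
    rw [hxp, sub_self, sub_mul, one_mul, sub_eq_zero] at h1
    exact h1
  have hfix : ∀ w, ρ x (E w) = E w := fun w => by
    rw [← Module.End.mul_apply]
    simp only [E, mul_smul_comm, hmul]
  have hproj : LinearMap.IsProj (LinearMap.ker (ρ x - 1)) E := by
    refine ⟨fun w => ?_, fun w hw => ?_⟩
    · rw [LinearMap.mem_ker, LinearMap.sub_apply, Module.End.one_apply, hfix, sub_self]
    · rw [LinearMap.mem_ker, LinearMap.sub_apply, Module.End.one_apply, sub_eq_zero] at hw
      simp only [E, LinearMap.smul_apply, LinearMap.sum_apply]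
      rw [Finset.sum_congr rfl (g := fun _ => w) fun i hi => by
        clear hi
        induction i with
        | zero => simp
        | succ i ih => rw [pow_succ, Module.End.mul_apply, hw, ih],
        Finset.sum_const, Finset.card_range, ← Nat.cast_smul_eq_nsmul ℂ, inv_smul_smul₀ hp0]
  have htr := hproj.trace
  set m := finrank ℂ (LinearMap.ker (ρ x - 1)) with hm
  have hm_le : m ≤ n := by
    have := Submodule.finrank_le (LinearMap.ker (ρ x - 1))
    rwa [Module.finrank_pi, Fintype.card_fin] at this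
  set cc := ρ.character x with hcc
  have hsum : (p : ℂ) * m = n + (p - 1) * cc := by
    rw [← htr]
    simp only [E, map_smul, map_sum, smul_eq_mul]
    rw [mul_inv_cancel_left₀ hp0, ← Finset.add_sum_erase _ _ (Finset.mem_range.mpr hp.out.pos),
      Finset.sum_congr rfl (g := fun _ => cc) fun i hi => ?_, Finset.sum_const,
      Finset.card_erase_of_mem (Finset.mem_range.mpr hp.out.pos), Finset.card_range, nsmul_eq_mul,
      Nat.cast_sub hp.out.one_le, Nat.cast_one]
    · congr 1
      rw [pow_zero, Module.End.one_eq_id, LinearMap.trace_id, Module.finrank_pi, Fintype.card_fin]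
    · rw [← map_pow]
      exact hconst i (Finset.mem_of_mem_erase hi) (Finset.ne_of_mem_erase hi)
  have hint : IsIntegral ℤ cc := Chars.isCharacter_isIntegral (Chars.isCharacter_of_rep ρ) x
  have hq : cc = (((((p : ℚ) * m - n) / (p - 1)) : ℚ) : ℂ) := by
    push_cast
    rw [eq_div_iff (by
      rw [sub_ne_zero]; exact_mod_cast hp.out.ne_one)]
    linear_combination -hsum
  obtain ⟨z, hz⟩ := Chars.exists_int_eq_of_isIntegral hint _ hq
  have hz' : (p : ℤ) * m = n + ((p : ℤ) - 1) * z := by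
    rw [hz] at hsum
    exact_mod_cast hsum
  have hzm : m = n := by
    have hdvd : ((p : ℤ) - 1) ∣ ((m : ℤ) - n) := ⟨z - m, by linear_combination hz'⟩
    have h2 := Int.eq_zero_of_abs_lt_dvd hdvd (by
      rw [abs_lt]; constructor <;> omega)
    omega
  have htop : LinearMap.ker (ρ x - 1) = ⊤ := Submodule.eq_top_of_finrank_eq (by
    rw [← hm, hzm, Module.finrank_pi, Fintype.card_fin])
  have hρx : ρ x = 1 := sub_eq_zero.mp (LinearMap.ker_eq_top.mp htop)
  rw [hρ x hρx, orderOf_one] at hx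
  exact hp.out.ne_one hx.symm

variable (p)

/-- Feit's theorem at the first small degree. -/
theorem quot_center_iso (hdiv : p ∣ Nat.card G) (hsq : ¬ p ^ 2 ∣ Nat.card G)
    (hnn : ∀ H : Subgroup G, H.Normal → Nat.card H ≠ p) {n : ℕ} (hn : 2 * n + 1 = p)
    (ρ : Representation ℂ G (Fin n → ℂ)) (hρ : ∀ g, ρ g = 1 → g = 1) :
    Nonempty (G ⧸ center G ≃* Cfsg.Agent.Lib.SL2.PSLtwo (ZMod p)) := by
  classical
  obtain ⟨x, hx⟩ := exists_prime_orderOf_dvd_card' p hdiv
  have hxp : x ^ p = 1 := by rw [← hx, pow_orderOf_eq_one]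
  have hzn : ¬ (zpowers x).Normal := fun h => hnn _ h (by rw [Nat.card_zpowers, hx])
  have hn2 : 2 ≤ n := by
    by_contra hlt
    have hcomm : ∀ a b : G, a * b = b * a := by
      intro a b
      have h1 : ∀ f g : Module.End ℂ (Fin n → ℂ), f * g = g * f := by
        rcases (show n = 0 ∨ n = 1 by omega) with rfl | rfl
        · exact fun f g => Subsingleton.elim _ _
        · intro f g
          apply (LinearMap.toMatrixAlgEquiv' (R := ℂ) (n := Fin 1)).injective
          rw [map_mul, map_mul]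
          ext i j
          fin_cases i; fin_cases j
          simp [Matrix.mul_apply, mul_comm]
      have h2 : ρ (a * b * a⁻¹ * b⁻¹) = 1 := by
        rw [map_mul, map_mul, map_mul, h1 (ρ a) (ρ b), mul_assoc (ρ b), ← map_mul ρ a, mul_inv_cancel,
          map_one, mul_one, ← map_mul, mul_inv_cancel, map_one]
      have h3 := hρ _ h2
      rwa [mul_inv_eq_one, mul_inv_eq_iff_eq_mul] at h3
    exact hzn ⟨fun z hz g => by rwa [hcomm g z, mul_inv_cancel_right]⟩
  have hp5 : 5 ≤ p := by omega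
  obtain ⟨k, _, _, _, σ, hσ⟩ := exists_modular p hsq hnn ρ hρ
  have hdim : 2 * finrank k (Fin n → k) < p := by rw [Module.finrank_pi, Fintype.card_fin]; omega
  -- the subgroup generated by the conjugates
  set H := normalClosure ({x} : Set G) with hHdef
  have hHn : H.Normal := normalClosure_normal
  have hxH : x ∈ H := subset_normalClosure (Set.mem_singleton x)
  set xH : H := ⟨x, hxH⟩ with hxHdef
  have hxo : orderOf xH = p := by rw [← orderOf_coe]; exact hx
  have hpxH : xH ^ p = 1 := Subtype.ext (by simpa [xH] using hxp)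
  have hsqH : ¬ p ^ 2 ∣ Nat.card H := fun h => hsq (h.trans H.card_subgroup_dvd_card)
  have hgen : Subgroup.closure {y : H | ∃ g, y = g * xH * g⁻¹} = ⊤ := by
    set C := Subgroup.closure {y : H | ∃ g, y = g * xH * g⁻¹} with hC
    have hxC : xH ∈ C := subset_closure ⟨1, by group⟩
    haveI : C.Normal := ⟨fun y hy g => by
      refine (closure_le (C.comap (MulAut.conj g).toMonoidHom)).mpr ?_ hy
      rintro _ ⟨g', rfl⟩
      exact subset_closure ⟨g * g', by simp [mul_assoc]⟩⟩
    have hpC : p ∣ Nat.card C := hxo ▸ Subgroup.orderOf_dvd_natCard _ hxC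
    rw [eq_top_iff]
    rintro ⟨h, hh⟩ -
    have hle : H ≤ C.map H.subtype := by
      refine (closure_le _).mpr ?_
      intro y hy
      obtain ⟨z, hz, hzy⟩ := Group.mem_conjugatesOfSet_iff.mp hy
      rw [Set.mem_singleton_iff.mp hz] at hzy
      obtain ⟨g, rfl⟩ := isConj_iff.mp hzy
      exact ⟨⟨g * x * g⁻¹, hHn.conj_mem _ hxH g⟩, mem_normal_of_dvd hsqH C hpC
        (Subtype.ext (by simp [conj_pow, hxp])), rfl⟩
    obtain ⟨w, hw, hwh⟩ := hle hh
    exact (Subtype.ext hwh : w = ⟨h, hh⟩) ▸ hw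
  have hcc : ∀ K : Subgroup H, K.Normal → ¬ p ∣ Nat.card K → K ≤ center H := fun K hK hd =>
    le_center_of_not_dvd hxo hsqH hgen (σ.comp H.subtype)
      (hσ.comp H.subtype_injective) hdim K hd
  have hnnH : ¬ (zpowers xH).Normal := by
    intro hN
    refine hzn ⟨fun z hz g => ?_⟩
    obtain ⟨i, rfl⟩ := mem_zpowers_iff.mp hz
    rw [← conj_zpow]
    refine zpow_mem ?_ i
    have h1 : (⟨g * x * g⁻¹, hHn.conj_mem _ hxH g⟩ : H) ∈ zpowers xH :=
      mem_normal_of_dvd hsqH _ (by rw [Nat.card_zpowers, hxo]) (Subtype.ext (by simp [conj_pow, hxp]))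
    obtain ⟨j, hj⟩ := mem_zpowers_iff.mp h1
    exact mem_zpowers_iff.mpr ⟨j, by simpa [xH] using congrArg Subtype.val hj⟩
  have hperf : commutator H = ⊤ := by
    by_contra hne
    by_cases hd : p ∣ Nat.card (commutator H)
    · exact hne (ker_eq_top_of_gen hgen _ (mem_normal_of_dvd hsqH _ hd
        hpxH))
    · have hcent : commutator H ≤ center H := hcc _ inferInstance hd
      have hxc : ∀ h : H, h * xH * h⁻¹ = xH := by
        intro h
        set c := h * xH * h⁻¹ * xH⁻¹ with hcdef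
        have hcC : c ∈ commutator H := by
          rw [_root_.commutator_def]
          exact commutator_mem_commutator (Subgroup.mem_top h) (Subgroup.mem_top xH)
        have hcx : Commute c xH := (mem_center_iff.mp (hcent hcC) xH).symm
        have hpow : c ^ p = 1 := by
          have h2 : (c * xH) ^ p = 1 := by
            rw [hcdef, inv_mul_cancel_right, conj_pow, hpxH, mul_one, mul_inv_cancel]
          rwa [hcx.mul_pow, hpxH, mul_one] at h2
        have hc1 : c = 1 := by
          rcases (Nat.dvd_prime hp.out).mp (orderOf_dvd_of_pow_eq_one hpow) with h3 | h3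
          · exact orderOf_eq_one_iff.mp h3
          · exact absurd (h3 ▸ Subgroup.orderOf_dvd_natCard _ hcC) hd
        exact mul_inv_eq_one.mp hc1
      refine hnnH ⟨fun z hz g => ?_⟩
      obtain ⟨i, rfl⟩ := mem_zpowers_iff.mp hz
      rw [← conj_zpow, hxc]
      exact zpow_mem (mem_zpowers _) i
  have hσx : σ x ≠ 1 := fun h => by
    rw [hσ (h.trans (map_one σ).symm), orderOf_one] at hx
    exact hp.out.ne_one hx.symm
  obtain ⟨K, hKn, hxK, ⟨e⟩⟩ := exists_quot_of_module hp5 hperf hxo hsqH hgen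
    (σ.comp H.subtype) hdim hσx
  have hKd : ¬ p ∣ Nat.card K := fun h => hxK (mem_normal_of_dvd hsqH K h
    hpxH)
  have hKc : K = center H := by
    refine le_antisymm (hcc K hKn hKd) fun z hz => ?_
    have h1 : e (QuotientGroup.mk z) ∈ center (SL2.PSLtwo (ZMod p)) := by
      rw [mem_center_iff]
      intro q
      obtain ⟨w, rfl⟩ := e.surjective q
      obtain ⟨h, rfl⟩ := QuotientGroup.mk_surjective w
      rw [← map_mul, ← map_mul, ← QuotientGroup.mk_mul, ← QuotientGroup.mk_mul,
        mem_center_iff.mp hz h]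
    rw [center_psl hp5, mem_bot, map_eq_one_iff _ e.injective] at h1
    exact (QuotientGroup.eq_one_iff z).mp h1
  -- lifting conjugation relations
  have hlift : ∀ (h : H) (i : ℕ),
      e (h : H ⧸ K) * e (xH : H ⧸ K) * (e (h : H ⧸ K))⁻¹ = e (xH : H ⧸ K) ^ i →
        h * xH * h⁻¹ = xH ^ i := by
    intro h i hi
    rw [← map_mul, ← map_inv, ← map_mul, ← map_pow, e.injective.eq_iff, ← QuotientGroup.mk_mul,
      ← QuotientGroup.mk_inv, ← QuotientGroup.mk_mul, ← QuotientGroup.mk_pow, eq_comm,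
      QuotientGroup.eq] at hi
    set d := (xH ^ i)⁻¹ * (h * xH * h⁻¹) with hd
    have hdc : d ∈ center H := hKc ▸ hi
    have h2 : (xH ^ i * d) ^ p = 1 := by
      rw [hd, mul_inv_cancel_left, conj_pow, hpxH, mul_one, mul_inv_cancel]
    rw [(show Commute (xH ^ i) d from mem_center_iff.mp hdc _).mul_pow, ← pow_mul, mul_comm i p,
      pow_mul, hpxH, one_pow, one_mul] at h2
    have hd1 : d = 1 := by
      rcases (Nat.dvd_prime hp.out).mp (orderOf_dvd_of_pow_eq_one h2) with h3 | h3
      · exact orderOf_eq_one_iff.mp h3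
      · exact absurd (h3 ▸ Subgroup.orderOf_dvd_natCard _ hi) hKd
    rw [hd, inv_mul_eq_one] at hd1
    exact hd1.symm
  have hsquares : ∀ b : (ZMod p)ˣ, ∃ h : H, (h : G) * x * (h : G)⁻¹ = x ^ ((b : ZMod p) * b).val := by
    intro b
    obtain ⟨q, hq⟩ := exists_conj_pow_sq hp5 (u := e (xH : H ⧸ K))
      (by rw [← map_pow, ← QuotientGroup.mk_pow, hpxH, QuotientGroup.mk_one, map_one]) b
    obtain ⟨w, rfl⟩ := e.surjective q
    obtain ⟨h, rfl⟩ := QuotientGroup.mk_surjective w
    refine ⟨h, ?_⟩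
    simpa [xH] using congrArg Subtype.val (hlift h _ hq)
  -- the fusion is realised in `H`
  obtain ⟨b₀, hb₀⟩ := exists_not_fused hn ρ hρ hx
  have hexp : ∀ (g : G), g * x * g⁻¹ ∈ zpowers x → ∃ a : (ZMod p)ˣ, g * x * g⁻¹ = x ^ (a : ZMod p).val := by
    intro g hg
    obtain ⟨i, hi⟩ := (Submonoid.mem_powers_iff _ _).1 (mem_powers_iff_mem_zpowers.2 hg)
    have hi0 : (i : ZMod p) ≠ 0 := by
      intro h
      obtain ⟨j, rfl⟩ := (ZMod.natCast_eq_zero_iff i p).mp h
      rw [pow_mul, hxp, one_pow, eq_comm, conj_eq_one_iff] at hi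
      rw [hi, orderOf_one] at hx
      exact hp.out.ne_one hx.symm
    exact ⟨Units.mk0 _ hi0, by rw [Units.val_mk0, ZMod.val_natCast, ← pow_eq_pow_mod _ hxp, hi]⟩
  have hcomp : ∀ (g h : G) (a b : ZMod p), g * x * g⁻¹ = x ^ a.val → h * x * h⁻¹ = x ^ b.val →
      g * h * x * (g * h)⁻¹ = x ^ (a * b).val := by
    intro g h a b hg hh
    rw [show g * h * x * (g * h)⁻¹ = g * (h * x * h⁻¹) * g⁻¹ by group, hh, ← conj_pow, hg, ← pow_mul,
      ZMod.val_mul, ← pow_eq_pow_mod _ hxp]
  have hsqonly : ∀ (g : G) (a : (ZMod p)ˣ), g * x * g⁻¹ = x ^ (a : ZMod p).val →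
      ∃ b : (ZMod p)ˣ, a = b * b := by
    intro g a hg
    by_contra hns
    -- a nonsquare would fuse every power
    have hb₀sq : ¬ ∃ b : (ZMod p)ˣ, b₀ = b * b := by
      rintro ⟨b, rfl⟩
      obtain ⟨h, hh⟩ := hsquares b
      exact hb₀ h (by rw [hh, Units.val_mul])
    obtain ⟨b, hb⟩ : ∃ b : (ZMod p)ˣ, b₀ = a * (b * b) := by
      have hcyc : ∃ b : (ZMod p)ˣ, b₀ * a⁻¹ = b * b := by
        obtain ⟨γ, hγ⟩ := IsCyclic.exists_generator (α := (ZMod p)ˣ)
        obtain ⟨i, hi⟩ := mem_zpowers_iff.mp (hγ a)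
        obtain ⟨j, hj⟩ := mem_zpowers_iff.mp (hγ b₀)
        have hio : ¬ Even i := fun ⟨l, hl⟩ => hns ⟨γ ^ l, by rw [← zpow_add, ← hl, hi]⟩
        have hjo : ¬ Even j := fun ⟨l, hl⟩ => hb₀sq ⟨γ ^ l, by rw [← zpow_add, ← hl, hj]⟩
        obtain ⟨l, hl⟩ := Int.even_sub.mpr (iff_of_false hjo hio)
        exact ⟨γ ^ l, by rw [← zpow_add, ← hl, zpow_sub, hi, hj]⟩
      obtain ⟨b, hb⟩ := hcyc
      exact ⟨b, by rw [← hb, mul_comm a, inv_mul_cancel_right]⟩
    obtain ⟨h, hh⟩ := hsquares b
    refine hb₀ (g * h) ?_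
    rw [hb, Units.val_mul, Units.val_mul]
    exact hcomp g h _ _ hg hh
  have hfactor : ∀ g : G, ∃ h : H, Commute ((h : G)⁻¹ * g) x := by
    intro g
    obtain ⟨h1, hh1⟩ := exists_conj_mem_zpowers hsqH hxo
      (y := (⟨g * x * g⁻¹, hHn.conj_mem _ hxH g⟩ : H)) (Subtype.ext (by simp [conj_pow, hxp]))
    have hm1 : (h1 : G) * g * x * ((h1 : G) * g)⁻¹ ∈ zpowers x := by
      obtain ⟨i, hi⟩ := mem_zpowers_iff.mp hh1
      refine mem_zpowers_iff.mpr ⟨i, ?_⟩
      have := congrArg Subtype.val hi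
      simp only [Subgroup.coe_mul, Subgroup.coe_inv, SubgroupClass.coe_zpow, xH] at this
      rw [this]; group
    obtain ⟨a, ha⟩ := hexp _ hm1
    obtain ⟨b, rfl⟩ := hsqonly _ a ha
    obtain ⟨h2, hh2⟩ := hsquares b
    refine ⟨h1⁻¹ * h2, ?_⟩
    have h3 : (h2 : G)⁻¹ * ((h1 : G) * g) * x * ((h2 : G)⁻¹ * ((h1 : G) * g))⁻¹ = x := by
      rw [show (h2 : G)⁻¹ * ((h1 : G) * g) * x * ((h2 : G)⁻¹ * ((h1 : G) * g))⁻¹ =
        (h2 : G)⁻¹ * ((h1 : G) * g * x * ((h1 : G) * g)⁻¹) * (h2 : G) by group, ha, Units.val_mul, ← hh2]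
      group
    rw [Subgroup.coe_mul, Subgroup.coe_inv, mul_inv_rev, inv_inv, mul_assoc]
    exact mul_inv_eq_iff_eq_mul.mp h3
  -- the Sylow subgroups of `H`
  set P₀ := primeSylow hsqH hxo with hP₀
  have hcardΩ : Nat.card (Sylow p H) = p + 1 := by
    haveI := hKn
    let π : H →* SL2.PSLtwo (ZMod p) := e.toMonoidHom.comp (QuotientGroup.mk' K)
    have hπ : Function.Surjective π := e.surjective.comp (QuotientGroup.mk'_surjective K)
    have hπx : orderOf (π xH) = p := orderOf_eq_prime
      (by rw [← map_pow, hpxH, map_one])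
      (fun h => hxK ((QuotientGroup.eq_one_iff xH).mp (e.injective (h.trans (map_one e).symm))))
    rw [P₀.card_eq_index_normalizer, ← card_sylow_psl hp5,
      (primeSylow (not_sq_dvd_psl hp5) hπx).card_eq_index_normalizer,
      ← Subgroup.index_comap_of_surjective _ hπ]
    congr 1
    ext h
    show h ∈ normalizer ((zpowers xH : Subgroup H) : Set H) ↔
      π h ∈ normalizer ((zpowers (π xH) : Subgroup (SL2.PSLtwo (ZMod p))) : Set _)
    constructor
    · intro hh
      obtain ⟨i, hi⟩ := mem_zpowers_iff.mp ((mem_normalizer_iff.mp hh xH).mp (mem_zpowers _))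
      refine mem_normalizer_of_conj fun z hz => ?_
      obtain ⟨j, rfl⟩ := mem_zpowers_iff.mp hz
      rw [← conj_zpow]
      refine zpow_mem (mem_zpowers_iff.mpr ⟨i, ?_⟩) j
      rw [← map_zpow, hi, map_mul, map_mul, map_inv]
    · intro hh
      obtain ⟨i, hi⟩ := (Submonoid.mem_powers_iff _ _).1 (mem_powers_iff_mem_zpowers.2
        ((mem_normalizer_iff.mp hh (π xH)).mp (mem_zpowers _)))
      have h1 := hlift h i hi.symm
      refine mem_normalizer_of_conj fun z hz => ?_
      obtain ⟨j, rfl⟩ := mem_zpowers_iff.mp hz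
      rw [← conj_zpow, h1]
      exact zpow_mem (pow_mem (mem_zpowers _) i) j
  let act : G →* Equiv.Perm (Sylow p H) :=
    (MulAction.toPermHom (MulAut H) (Sylow p H)).comp (MulAut.conjNormal : G →* MulAut H)
  have hact : ∀ g Q, act g Q = (MulAut.conjNormal g : MulAut H) • Q := fun g Q => rfl
  have hxfix : ∀ Q : Sylow p H, act x Q = Q → Q = P₀ := by
    intro Q hQ
    have hn' : xH ∈ normalizer ((Q : Subgroup H) : Set H) := by
      refine Sylow.smul_eq_iff_mem_normalizer.mp (Eq.trans (Sylow.ext ?_) hQ)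
      show (MulAut.conj xH) • (Q : Subgroup H) = (MulAut.conjNormal x : MulAut H) • (Q : Subgroup H)
      congr 1
      exact MulEquiv.ext fun h => Subtype.ext (by simp [xH])
    have hP : IsPGroup p (zpowers xH : Subgroup H) := P₀.isPGroup'
    have h1 : zpowers xH ≤ (Q : Subgroup H) := by
      have h2 := hP.inf_normalizer_sylow Q
      exact (le_inf le_rfl (zpowers_le.mpr hn')).trans (h2.le.trans inf_le_right)
    exact Sylow.ext (P₀.is_maximal' Q.isPGroup' h1)
  have hxmoves : act x ≠ 1 := by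
    intro h
    haveI : Subsingleton (Sylow p H) := ⟨fun Q R =>
      (hxfix Q (by rw [h]; rfl)).trans (hxfix R (by rw [h]; rfl)).symm⟩
    have := Finite.card_le_one_iff_subsingleton.mpr (inferInstance : Subsingleton (Sylow p H))
    omega
  have hactxp : act x ^ p = 1 := by rw [← map_pow, hxp, map_one]
  have hxP₀ : act x P₀ = P₀ := by
    rw [hact]
    refine Sylow.ext ?_
    show (MulAut.conjNormal x : MulAut H) • (P₀ : Subgroup H) = P₀
    have h2 : (MulAut.conjNormal x : MulAut H) = MulAut.conj xH := MulEquiv.ext fun h =>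
      Subtype.ext (by simp [xH])
    rw [h2]
    exact Subgroup.conj_smul_eq_self_of_mem (mem_zpowers xH)
  have htrans : ∀ g : G, Commute g x → ¬ p ∣ orderOf g → act g = 1 := by
    intro g hgx hgp
    have hgp₀ : act g P₀ = P₀ := by
      refine hxfix _ ?_
      rw [← Equiv.Perm.mul_apply, ← map_mul, hgx.eq.symm, map_mul, Equiv.Perm.mul_apply, hxP₀]
    refine Equiv.ext fun Q => ?_
    show act g Q = Q
    by_cases hQ : Q = P₀
    · rw [hQ, hgp₀]
    let f : ZMod p → {R : Sylow p H // R ≠ P₀} := fun i => ⟨(act x ^ i.val) Q, fun h => hQ (by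
      refine hxfix Q ?_
      have h5 : ∀ m : ℕ, (act x ^ m) P₀ = P₀ := fun m => by
        induction m with
        | zero => rfl
        | succ m ih => rw [pow_succ, Equiv.Perm.mul_apply, hxP₀, ih]
      have h6 : Q = P₀ := (act x ^ i.val).injective (h.trans (h5 _).symm)
      rw [h6, hxP₀])⟩
    have hkey : ∀ m : ℕ, (act x ^ m) Q = Q → p ∣ m := by
      intro m hm
      by_contra hpm
      obtain ⟨l, hl⟩ := Nat.exists_mul_mod_eq_one_of_coprime
        ((hp.out.coprime_iff_not_dvd.mpr hpm).symm) hp.out.one_lt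
      refine hQ (hxfix Q ?_)
      have h1 : ((act x ^ m) ^ l) Q = Q := by
        clear hl
        induction l with
        | zero => rfl
        | succ l ih => rw [pow_succ, Equiv.Perm.mul_apply, hm, ih]
      rwa [← pow_mul, ← Nat.mod_add_div (m * l) p, pow_add, pow_mul, hactxp, one_pow, mul_one,
        hl.2, pow_one] at h1
    have hfinj : Function.Injective f := by
      have key : ∀ i j : ZMod p, i.val ≤ j.val → f i = f j → i = j := by
        intro i j hle hij
        have h1 : (act x ^ i.val) Q = (act x ^ j.val) Q := congrArg Subtype.val hij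
        obtain ⟨d, hd⟩ := Nat.exists_eq_add_of_le hle
        rw [hd, pow_add, Equiv.Perm.mul_apply] at h1
        have h2 := hkey d ((act x ^ i.val).injective h1).symm
        have h3 : d = 0 := Nat.eq_zero_of_dvd_of_lt h2 (by have := ZMod.val_lt j; omega)
        exact ZMod.val_injective p (by omega)
      intro i j hij
      rcases le_total i.val j.val with hle | hle
      · exact key i j hle hij
      · exact (key j i hle hij.symm).symm
    have hfsurj : Function.Bijective f := by
      refine (Nat.bijective_iff_injective_and_card f).mpr ⟨hfinj, ?_⟩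
      haveI : Fintype (Sylow p H) := Fintype.ofFinite _
      rw [Nat.card_zmod, Nat.card_eq_fintype_card, Fintype.card_subtype_compl,
        Fintype.card_subtype_eq, ← Nat.card_eq_fintype_card, hcardΩ, Nat.add_sub_cancel]
    have hQ' : act g Q ≠ P₀ := fun h => hQ ((act g).injective (h.trans hgp₀.symm))
    obtain ⟨i, hi⟩ := hfsurj.2 ⟨act g Q, hQ'⟩
    have hi' : (act x ^ i.val) Q = act g Q := congrArg Subtype.val hi
    have hcm : Commute (act g) (act x ^ i.val) := (hgx.map act).pow_right _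
    have hiter : ∀ m : ℕ, (act g ^ m) Q = (act x ^ (i.val * m)) Q := by
      intro m
      induction m with
      | zero => simp
      | succ m ih =>
        rw [pow_succ, Equiv.Perm.mul_apply, ← hi', ← Equiv.Perm.mul_apply, (hcm.pow_left m).eq,
          Equiv.Perm.mul_apply, ih, ← Equiv.Perm.mul_apply, ← pow_add, mul_add, mul_one, add_comm]
    have h1 := hiter (orderOf g)
    rw [← map_pow, pow_orderOf_eq_one, map_one, Equiv.Perm.one_apply] at h1
    have h2 := hkey _ h1.symm
    rcases hp.out.dvd_mul.mp h2 with h3 | h3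
    · rw [← hi', Nat.eq_zero_of_dvd_of_lt h3 (ZMod.val_lt i)]; rfl
    · exact absurd h3 hgp
  have hN : ¬ p ∣ Nat.card act.ker := fun h =>
    hxmoves (MonoidHom.mem_ker.mp (mem_normal_of_dvd hsq act.ker h hxp))
  have hNc : (act.ker).subgroupOf H ≤ center H := hcc _ inferInstance fun h =>
    hN (h.trans (by
      have h1 := Subgroup.card_comap_dvd_of_injective act.ker H.subtype H.subtype_injective
      exact h1))
  have hVcentral : ∀ v : G, Commute v x → ¬ p ∣ orderOf v → v ∈ center G := by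
    intro v hvx hvp
    have hvN : v ∈ act.ker := MonoidHom.mem_ker.mpr (htrans v hvx hvp)
    refine mem_center_of_commute hperf hxo hsqH hgen hn ρ hρ
      (commute_of_comm_central hperf fun h => hNc ?_)
    rw [mem_subgroupOf, Subgroup.coe_mul, Subgroup.coe_inv]
    show v * (h : G) * v⁻¹ * (h : G)⁻¹ ∈ act.ker
    rw [show v * (h : G) * v⁻¹ * (h : G)⁻¹ = v * ((h : G) * v⁻¹ * (h : G)⁻¹) by group]
    exact mul_mem hvN ((inferInstance : act.ker.Normal).conj_mem _ (inv_mem hvN) _)
  obtain ⟨S, hS⟩ := DefectOne.exists_localData hx hsq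
  -- the quotient
  let θ : H →* G ⧸ center G := (QuotientGroup.mk' (center G)).comp H.subtype
  have hθ : Function.Surjective θ := by
    intro q
    obtain ⟨g, rfl⟩ := QuotientGroup.mk_surjective q
    obtain ⟨h, hh⟩ := hfactor g
    obtain ⟨i, v, hv, hiv⟩ := S.factor _ (hS ▸ hh)
    have hvc : v ∈ center G := hVcentral v (hS ▸ (S.commute v hv).symm) fun hd =>
      S.coprime (hd.trans (Subgroup.orderOf_dvd_natCard _ hv))
    refine ⟨h * xH ^ i, ?_⟩
    show ((((h * xH ^ i : H) : G)) : G ⧸ center G) = (g : G ⧸ center G)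
    rw [QuotientGroup.eq]
    have : ((h * xH ^ i : H) : G)⁻¹ * g = v := by
      rw [Subgroup.coe_mul, Subgroup.coe_pow, mul_inv_rev, mul_assoc, hiv, hS]
      exact inv_mul_cancel_left _ _
    rwa [this]
  have hker : θ.ker = K := by
    ext h
    rw [MonoidHom.mem_ker, hKc]
    show ((h : G) : G ⧸ center G) = 1 ↔ _
    rw [QuotientGroup.eq_one_iff]
    constructor
    · intro hh
      exact mem_center_iff.mpr fun g => Subtype.ext (mem_center_iff.mp hh g)
    · intro hh
      exact mem_center_of_commute hperf hxo hsqH hgen hn ρ hρ fun g =>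
        (show Commute (g : G) (h : G) from congrArg Subtype.val (mem_center_iff.mp hh g)).symm
  exact ⟨((QuotientGroup.quotientKerEquivOfSurjective θ hθ).symm.trans
    (QuotientGroup.quotientMulEquivOfEq hker)).trans e⟩

end Cfsg.Agent.Lib.HalfPSL
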